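import Groth.Agent.H9Smooth.Retract
import Groth.Agent.H9Hens.PairHens
import Groth.Agent.H9Hens.EtNbhd
import Groth.Agent.H9Hens.IdemMatrix
import Mathlib.RingTheory.Polynomial.Basic

/-!
# Lifting smooth algebras along surjections of base rings
-/

set_option autoImplicit false

universe u

open MvPolynomial Matrix

namespace Groth.Agent.H9Smooth

/-- Idempotent matrices modulo an ideal lift to an etale neighbourhood. -/
theorem exists_etale_idem_lift {B : Type u} [CommRing B] (J : Ideal B) {n : ℕ}
    (e : Matrix (Fin n) (Fin n) (B ⧸ J)) (he : e * e = e) :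
    ∃ (T : Type u) (_ : CommRing T) (_ : Algebra B T) (_ : Algebra.Etale B T) (σ : T →ₐ[B] B ⧸ J),
      (∀ x, σ x = 0 → x ∈ J.map (algebraMap B T)) ∧ Function.Surjective σ ∧
      ∃ E : Matrix (Fin n) (Fin n) T, E * E = E ∧ ∀ i j, σ (E i j) = e i j := by
  classical
  obtain ⟨H, _, _, π, hH, -⟩ := H9Hens.exists_isPairHenselization B J
  haveI := hH.henselianRing
  have hπs : Function.Surjective π := fun x => by
    obtain ⟨b, rfl⟩ := Ideal.Quotient.mk_surjective x
    exact ⟨algebraMap B H b, π.commutes b⟩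
  let q : (H ⧸ RingHom.ker π) ≃+* (B ⧸ J) := RingHom.quotientKerEquivOfSurjective hπs
  have he' : IsIdempotentElem (e.map q.symm) := by
    show e.map q.symm * e.map q.symm = e.map q.symm
    rw [← Matrix.map_mul, he]
  obtain ⟨Eh, hEh, hmap⟩ := H9Hens.exists_idem_matrix_lift (e.map q.symm) he'
  have hπE : ∀ i j, π (Eh i j) = e i j := fun i j => by
    have h := congrArg q (congrFun (congrFun hmap i) j)
    simp only [Matrix.map_apply, RingEquiv.apply_symm_apply] at h
    rw [← h]
    rfl
  obtain ⟨S, _, _, _, φ, y, hy⟩ :=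
    hH.exists_rep_fin (fun k : Fin (n * n) => Eh (finProdFinEquiv.symm k).1 (finProdFinEquiv.symm k).2)
  -- kill the finitely many entries of `E * E - E`
  have hfin : ∀ s : Finset (Fin n × Fin n), ∃ (T : Type u) (_ : CommRing T) (_ : Algebra B T)
      (_ : Algebra.Etale B T) (φT : T →ₐ[B] H) (E : Matrix (Fin n) (Fin n) T),
      (∀ i j, φT (E i j) = Eh i j) ∧ ∀ x ∈ s, (E * E - E) x.1 x.2 = 0 := by
    intro s
    induction s using Finset.induction with
    | empty =>
      exact ⟨S, inferInstance, inferInstance, inferInstance, φ,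
        Matrix.of fun i j => y (finProdFinEquiv (i, j)), fun i j => by simp [hy], by simp⟩
    | @insert a s _ ih =>
      obtain ⟨T, _, _, _, φT, E, hE, hs⟩ := ih
      have h0 : φT ((E * E - E) a.1 a.2) = 0 := by
        simp only [Matrix.sub_apply, Matrix.mul_apply, map_sub, map_sum, map_mul, hE]
        rw [← Matrix.mul_apply, hEh.eq, sub_self]
      obtain ⟨T', _, _, _, ψ, φT', hc, hz⟩ := hH.exists_eq_zero T φT _ h0
      refine ⟨T', inferInstance, inferInstance, inferInstance, φT', E.map ψ, fun i j => ?_, fun x hx => ?_⟩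
      · rw [Matrix.map_apply, ← hE i j, ← hc]; rfl
      · have hψ : (E.map ψ * E.map ψ - E.map ψ) x.1 x.2 = ψ ((E * E - E) x.1 x.2) := by
          simp [Matrix.mul_apply, map_sum]
        rw [hψ]
        rcases Finset.mem_insert.mp hx with rfl | hx
        · exact hz
        · rw [hs x hx, map_zero]
  obtain ⟨T, _, _, _, φT, E, hE, hs⟩ := hfin Finset.univ
  have hEE : E * E = E := sub_eq_zero.mp (Matrix.ext fun i j => hs (i, j) (Finset.mem_univ _))
  obtain ⟨T', _, _, _, ψ, σ', hb, hσ, -⟩ := H9Hens.exists_etale_nbhd T (π.comp φT) 1 (by simp)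
  refine ⟨T', inferInstance, inferInstance, inferInstance, σ', fun x hx => ?_, fun x => ?_, E.map ψ, ?_, fun i j => ?_⟩
  · rw [← Ideal.Quotient.eq_zero_iff_mem, H9Hens.mk_eq_quotientMap_section hb.2 σ' x, hx, map_zero]
  · obtain ⟨b, rfl⟩ := Ideal.Quotient.mk_surjective x
    exact ⟨algebraMap B T' b, σ'.commutes b⟩
  · rw [← Matrix.map_mul, hEE]
  · rw [Matrix.map_apply, show σ' (ψ (E i j)) = (σ'.comp ψ) (E i j) from rfl, hσ, AlgHom.comp_apply, hE, hπE]

/-- The quotient of a formally smooth algebra by `w = E w` is formally smooth when a derivation is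
invertible on the image of the idempotent `E`. -/
theorem formallySmooth_quotient_of_idem {R B : Type u} [CommRing R] [CommRing B] [Algebra R B]
    [Algebra.FormallySmooth R B] {n : ℕ} (E : Matrix (Fin n) (Fin n) B) (hE : E * E = E) (w : Fin n → B)
    (hw : ∀ i, ∑ l, E i l * w l = w i) (d : Derivation R B (Fin n → B))
    (hu : IsUnit (E * (Matrix.of fun i l => d (w i) l) * E + (1 - E))) :
    Algebra.FormallySmooth R (B ⧸ Ideal.span (Set.range w)) := by
  classical
  let K := Ideal.span (Set.range w)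
  let q := Ideal.Quotient.mkₐ R K
  let M : Matrix (Fin n) (Fin n) B := Matrix.of fun i l => d (w i) l
  let N := E * M * E + (1 - E)
  obtain ⟨N', hN'⟩ := hu.exists_right_inv
  have hEN : E * N = E * M * E := by
    show E * (E * M * E + (1 - E)) = _
    rw [mul_add, mul_sub, mul_one, hE, sub_self, add_zero, ← mul_assoc, ← mul_assoc, hE]
  -- the correction
  let c : Fin n → B := fun l => -((E * N').mulVec w l)
  have hwK : ∀ i, w i ∈ K := fun i => Ideal.subset_span ⟨i, rfl⟩
  have hc : ∀ l, c l ∈ K := fun l => neg_mem (by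
    simp only [Matrix.mulVec, dotProduct]
    exact K.sum_mem fun i _ => K.mul_mem_left _ (hwK i))
  let P := RingHom.ker q.toRingHom ^ 2
  have hP : ∀ a ∈ K, ∀ b ∈ K, a * b ∈ P := fun a ha b hb => by
    show a * b ∈ RingHom.ker q.toRingHom ^ 2
    rw [pow_two]
    exact Ideal.mul_mem_mul (Ideal.Quotient.eq_zero_iff_mem.mpr ha) (Ideal.Quotient.eq_zero_iff_mem.mpr hb)
  have hM : ∀ i l, M i l - (E * M) i l ∈ K := fun i l => by
    have h1 : d (w i) = ∑ a, (E i a • d (w a) + w a • d (E i a)) := by
      conv_lhs => rw [← hw i, map_sum]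
      exact Finset.sum_congr rfl fun a _ => Derivation.leibniz ..
    show d (w i) l - _ ∈ K
    rw [h1, Matrix.mul_apply, Finset.sum_apply, ← Finset.sum_sub_distrib]
    refine K.sum_mem fun a _ => ?_
    simp only [Pi.add_apply, Pi.smul_apply, smul_eq_mul, M, Matrix.of_apply, add_sub_cancel_left]
    exact K.mul_mem_right _ (hwK a)
  have hEv : (E * M).mulVec c = -w := by
    have : c = -(E * N').mulVec w := rfl
    rw [this, Matrix.mulVec_neg, Matrix.mulVec_mulVec, ← mul_assoc, ← hEN, mul_assoc, hN', mul_one]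
    exact congrArg Neg.neg (funext fun i => hw i)
  let t : B →ₐ[R] B ⧸ P :=
    { toFun := fun b => Ideal.Quotient.mk P (b + ∑ l, c l * d b l)
      map_one' := by simp
      map_zero' := by simp
      map_add' := fun a b => by
        rw [← map_add]
        congr 1
        simp only [map_add, Pi.add_apply, mul_add, Finset.sum_add_distrib]
        ring
      map_mul' := fun a b => by
        rw [← map_mul, Ideal.Quotient.eq]
        have e : a * b + ∑ l, c l * d (a * b) l - (a + ∑ l, c l * d a l) * (b + ∑ l, c l * d b l) =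
            -((∑ l, c l * d a l) * ∑ l, c l * d b l) := by
          have : ∑ l, c l * d (a * b) l = a * ∑ l, c l * d b l + b * ∑ l, c l * d a l := by
            simp only [Derivation.leibniz, Pi.add_apply, Pi.smul_apply, smul_eq_mul, mul_add,
              Finset.sum_add_distrib, Finset.mul_sum]
            congr 1 <;> exact Finset.sum_congr rfl fun l _ => by ring
          rw [this]; ring
        rw [e]
        exact neg_mem (hP _ (K.sum_mem fun l _ => K.mul_mem_right _ (hc l)) _
          (K.sum_mem fun l _ => K.mul_mem_right _ (hc l)))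
      commutes' := fun r => by simp }
  have htw : ∀ x ∈ K, t x = 0 := by
    suffices K ≤ RingHom.ker t.toRingHom from fun x hx => this hx
    rw [Ideal.span_le]
    rintro _ ⟨i, rfl⟩
    show Ideal.Quotient.mk P (w i + ∑ l, c l * d (w i) l) = 0
    rw [Ideal.Quotient.eq_zero_iff_mem]
    have e : w i + ∑ l, c l * d (w i) l = ∑ l, c l * (M i l - (E * M) i l) := by
      have := congrFun hEv i
      simp only [Matrix.mulVec, dotProduct, Pi.neg_apply] at this
      simp only [mul_sub, Finset.sum_sub_distrib]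
      rw [show ∑ l, c l * (E * M) i l = -w i by
        rw [← this]; exact Finset.sum_congr rfl fun l _ => mul_comm _ _, sub_neg_eq_add, add_comm]
      rfl
    rw [e]
    exact P.sum_mem fun l _ => hP _ (hc l) _ (hM i l)
  refine Algebra.FormallySmooth.of_split q (Ideal.Quotient.liftₐ K t htw)
    (Ideal.Quotient.algHom_ext R (AlgHom.ext fun b => ?_))
  show q (b + ∑ l, c l * d b l) = q b
  rw [map_add, show q (∑ l, c l * d b l) = 0 from
    Ideal.Quotient.eq_zero_iff_mem.mpr (K.sum_mem fun l _ => K.mul_mem_right _ (hc l)), add_zero]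

/-- Standard smooth algebras lift. -/
theorem exists_lift_standardSmooth {R : Type u} [CommRing R] (I : Ideal R) (B₀ : Type u) [CommRing B₀]
    [Algebra (R ⧸ I) B₀] [Algebra R B₀] [IsScalarTower R (R ⧸ I) B₀]
    [Algebra.IsStandardSmooth (R ⧸ I) B₀] :
    ∃ (B : Type u) (_ : CommRing B) (_ : Algebra R B) (_ : Algebra.Smooth R B) (π : B →ₐ[R] B₀),
      Function.Surjective π ∧ ∀ x, π x = 0 → x ∈ I.map (algebraMap R B) := by
  classical
  obtain ⟨ι, σ, _, _, ⟨P⟩⟩ := Algebra.IsStandardSmooth.out (R := R ⧸ I) (S := B₀)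
  haveI := Fintype.ofFinite σ
  let red : MvPolynomial ι R →+* MvPolynomial ι (R ⧸ I) := MvPolynomial.map (Ideal.Quotient.mk I)
  have hred : Function.Surjective red := MvPolynomial.map_surjective _ Ideal.Quotient.mk_surjective
  choose F hF using fun j => hred (P.relation j)
  let C := MvPolynomial ι R ⧸ Ideal.span (Set.range F)
  let Q : Algebra.PreSubmersivePresentation R C ι σ :=
    Algebra.PreSubmersivePresentation.naive P.map P.map_inj
  set Δ := Q.jacobian with hΔdef
  have hev : ∀ p, aeval (R := R) P.val p = aeval P.val (red p) := fun p => by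
    show aeval P.val p = aeval P.val (MvPolynomial.map (algebraMap R (R ⧸ I)) p)
    rw [aeval_map_algebraMap]
  have hker : ∀ x ∈ Ideal.span (Set.range F), aeval (R := R) P.val x = 0 := by
    suffices Ideal.span (Set.range F) ≤ RingHom.ker (aeval (R := R) P.val : MvPolynomial ι R →ₐ[R] B₀).toRingHom from
      fun x hx => this hx
    rw [Ideal.span_le]
    rintro _ ⟨j, rfl⟩
    show aeval (R := R) P.val (F j) = 0
    rw [hev, hF]
    exact P.aeval_val_relation j
  let π₀ : C →ₐ[R] B₀ := Ideal.Quotient.liftₐ _ (aeval (R := R) P.val) hker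
  have hπ₀ : ∀ p : MvPolynomial ι R, π₀ (Ideal.Quotient.mk _ p) = aeval P.val (red p) := fun p => hev p
  have hπΔ : π₀ Δ = P.jacobian := by
    rw [hΔdef, Q.jacobian_eq_jacobiMatrix_det, P.jacobian_eq_jacobiMatrix_det, Algebra.Generators.algebraMap_apply,
      Algebra.Generators.algebraMap_apply]
    rw [show π₀ (aeval Q.val Q.jacobiMatrix.det) = aeval (R := R) P.val Q.jacobiMatrix.det from by
      rw [show aeval Q.val Q.jacobiMatrix.det = Ideal.Quotient.mk (Ideal.span (Set.range F)) Q.jacobiMatrix.det from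
        DFunLike.congr_fun (MvPolynomial.aeval_unique (Ideal.Quotient.mkₐ R _)).symm _]
      rfl, hev, RingHom.map_det]
    congr 2
    ext1 a b
    show red (Q.jacobiMatrix a b) = _
    rw [Algebra.PreSubmersivePresentation.jacobiMatrix_naive, P.jacobiMatrix_apply, ← hF b]
    exact (pderiv_map).symm
  have hu : IsUnit (π₀ Δ) := hπΔ ▸ P.jacobian_isUnit
  let B := Localization.Away Δ
  let P' : Algebra.SubmersivePresentation R B _ _ :=
    { toPreSubmersivePresentation := .comp (.localizationAway B Δ) Q,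
      jacobian_isUnit := by
        simpa [Algebra.smul_def, -isUnit_map_iff, hΔdef] using
          (IsLocalization.Away.algebraMap_isUnit (S := B) Δ) }
  haveI : Algebra.IsStandardSmooth R B := P'.isStandardSmooth
  let π : B →ₐ[R] B₀ := IsLocalization.liftAlgHom (M := Submonoid.powers Δ) (f := π₀) (by
    rintro ⟨_, j, rfl⟩; show IsUnit (π₀ (Δ ^ j)); rw [map_pow]; exact hu.pow j)
  have hπ : ∀ c, π (algebraMap C B c) = π₀ c := fun c => IsLocalization.lift_eq _ _
  refine ⟨B, inferInstance, inferInstance, inferInstance, π, fun b => ?_, fun x hx => ?_⟩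
  · refine ⟨algebraMap C B (Ideal.Quotient.mk _ (Classical.choose (hred (P.σ b)))), ?_⟩
    rw [hπ, hπ₀, Classical.choose_spec (hred (P.σ b))]
    exact P.aeval_val_σ b
  · obtain ⟨⟨c, ⟨_, j, rfl⟩⟩, hc⟩ := IsLocalization.surj (Submonoid.powers Δ) x
    change x * algebraMap C B (Δ ^ j) = algebraMap C B c at hc
    obtain ⟨p, rfl⟩ := Ideal.Quotient.mk_surjective c
    have h1 : aeval P.val (red p) = 0 := by
      have := congrArg π hc
      rw [map_mul, hπ, hπ, hx, zero_mul, hπ₀] at this
      exact this.symm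
    have h2 : red p ∈ Ideal.span (Set.range P.relation) := by
      rw [P.span_range_relation_eq_ker, P.ker_eq_ker_aeval_val]
      exact h1
    have h3 : p ∈ Ideal.span (Set.range F) ⊔ I.map (algebraMap R (MvPolynomial ι R)) := by
      rw [show Set.range P.relation = red '' Set.range F by
        rw [← Set.range_comp]; exact congrArg Set.range (funext fun j => (hF j).symm), ← Ideal.map_span,
        Ideal.mem_map_iff_of_surjective _ hred] at h2
      obtain ⟨p', hp', hpp⟩ := h2
      have : p - p' ∈ RingHom.ker red := by rw [RingHom.mem_ker, map_sub, hpp, sub_self]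
      rw [MvPolynomial.ker_map, Ideal.mk_ker] at this
      rw [show p = p' + (p - p') by ring]
      exact add_mem (Ideal.mem_sup_left hp') (Ideal.mem_sup_right this)
    have h4 : algebraMap C B (Ideal.Quotient.mk _ p) ∈ I.map (algebraMap R B) := by
      obtain ⟨a, ha, b, hb, rfl⟩ := Submodule.mem_sup.mp h3
      rw [map_add, map_add, Ideal.Quotient.eq_zero_iff_mem.mpr ha, map_zero, zero_add]
      have h5 := Ideal.mem_map_of_mem ((IsScalarTower.toAlgHom R C B).comp
        (Ideal.Quotient.mkₐ R (Ideal.span (Set.range F)))).toRingHom hb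
      rw [Ideal.map_map, show ((IsScalarTower.toAlgHom R C B).comp (Ideal.Quotient.mkₐ R (Ideal.span (Set.range F)))).toRingHom.comp
        (algebraMap R (MvPolynomial ι R)) = algebraMap R B from RingHom.ext fun r =>
          AlgHom.commutes ((IsScalarTower.toAlgHom R C B).comp (Ideal.Quotient.mkₐ R (Ideal.span (Set.range F)))) r] at h5
      exact h5
    rw [← hc] at h4
    refine (Ideal.mul_unit_mem_iff_mem _ ?_).mp h4
    rw [map_pow]
    exact (IsLocalization.Away.algebraMap_isUnit Δ).pow j

theorem mem_span_of_retraction {R A₀ : Type u} [CommRing R] [CommRing A₀] [Algebra R A₀] {n : ℕ}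
    {φ : MvPolynomial (Fin n) R →ₐ[R] A₀} {k : Fin n → MvPolynomial (Fin n) R}
    (ρ : StdB φ k →ₐ[A₀] A₀) (hρ : ∀ l, ρ (algebraMap (SymE φ k) (StdB φ k) (yC φ k l)) = 0)
    (b : StdB φ k) (hb : ρ b = 0) :
    b ∈ Ideal.span (Set.range fun l => algebraMap (SymE φ k) (StdB φ k) (yC φ k l)) := by
  classical
  set Y := Ideal.span (Set.range fun l => algebraMap (SymE φ k) (StdB φ k) (yC φ k l)) with hY
  have hc : ∀ c : SymE φ k, algebraMap (SymE φ k) (StdB φ k) c - algebraMap A₀ (StdB φ k) (retr₀ φ k c) ∈ Y := by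
    intro c
    obtain ⟨p, rfl⟩ := Ideal.Quotient.mk_surjective c
    induction p using MvPolynomial.induction_on with
    | C a =>
      rw [show retr₀ φ k (Ideal.Quotient.mk _ (C a)) = a from (retr₀ φ k).commutes a, stdB_algebraMap]
      simp only [← MvPolynomial.algebraMap_eq, Ideal.Quotient.mk_algebraMap, sub_self, zero_mem]
    | add p q hp hq =>
      simp only [map_add]
      rw [add_sub_add_comm]
      exact add_mem hp hq
    | mul_X p i hp =>
      simp only [map_mul]
      rw [show retr₀ φ k (Ideal.Quotient.mk (relIdeal φ k) (X i)) = 0 from retr₀_yC i, map_zero, mul_zero,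
        sub_zero]
      exact Ideal.mul_mem_left _ _ (Ideal.subset_span ⟨i, rfl⟩)
  obtain ⟨⟨c, ⟨_, j, rfl⟩⟩, hbc⟩ := IsLocalization.surj (Submonoid.powers (detE φ k)) b
  change b * algebraMap (SymE φ k) (StdB φ k) (detE φ k ^ j) = algebraMap (SymE φ k) (StdB φ k) c at hbc
  have hρY : ∀ x ∈ Y, ρ x = 0 := by
    suffices Y ≤ RingHom.ker ρ.toRingHom from fun x hx => this hx
    rw [hY, Ideal.span_le]
    rintro _ ⟨l, rfl⟩
    exact hρ l
  have hcr : retr₀ φ k c = 0 := by
    have h1 := hρY _ (hc c)
    rw [map_sub, ρ.commutes, ← hbc, map_mul, hb, zero_mul, zero_sub, neg_eq_zero] at h1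
    exact h1
  have h2 := hc c
  rw [hcr, map_zero, sub_zero, ← hbc, map_pow] at h2
  exact (Ideal.mul_unit_mem_iff_mem _
    ((IsLocalization.Away.algebraMap_isUnit (detE φ k)).pow j)).mp h2

theorem exists_retraction {R A₀ : Type u} [CommRing R] [CommRing A₀] [Algebra R A₀] {n : ℕ}
    {φ : MvPolynomial (Fin n) R →ₐ[R] A₀} {k : Fin n → MvPolynomial (Fin n) R} :
    ∃ ρ : StdB φ k →ₐ[A₀] A₀, ∀ l, ρ (algebraMap (SymE φ k) (StdB φ k) (yC φ k l)) = 0 := by
  refine ⟨IsLocalization.liftAlgHom (M := Submonoid.powers (detE φ k)) (f := retr₀ φ k) (by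
    rintro ⟨_, j, rfl⟩
    show IsUnit (retr₀ φ k (detE φ k ^ j))
    rw [map_pow, retr₀_detE, one_pow]
    exact isUnit_one), fun l => (IsLocalization.lift_eq _ _).trans (retr₀_yC l)⟩

/-- The dual derivation is invertible on the image of the idempotent. -/
theorem exists_normal_derivation {R A₀ : Type u} [CommRing R] [CommRing A₀] [Algebra R A₀] {n : ℕ}
    {φ : MvPolynomial (Fin n) R →ₐ[R] A₀} {k : Fin n → MvPolynomial (Fin n) R}
    (hφ : Function.Surjective φ) (hk : ∀ i, φ (k i) = 0)
    (hE : ∀ p, φ p = 0 → ∀ l, ∑ i, φ (pderiv i p) * φ (pderiv l (k i)) = φ (pderiv l p)) :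
    ∃ d : Derivation R (StdB φ k) (Fin n → StdB φ k),
      bE φ k * (Matrix.of fun i l => d (algebraMap (SymE φ k) (StdB φ k) (yC φ k i)) l) * bE φ k = bE φ k := by
  classical
  obtain ⟨d, hd⟩ := exists_dual hφ hk hE
  refine ⟨d, ?_⟩
  let χ : MvPolynomial (Fin n) R →ₐ[R] StdB φ k := (IsScalarTower.toAlgHom R A₀ (StdB φ k)).comp φ
  have hEdX : bE φ k * (Matrix.of fun i l => d (χ (X i)) l) = 0 := by
    ext i l
    have h1 : d (χ (k i)) = 0 := by
      rw [show χ (k i) = 0 from by show algebraMap A₀ _ (φ _) = 0; rw [hk, map_zero], map_zero]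
    rw [derivation_aeval d χ (k i)] at h1
    have h2 := congrFun h1 l
    rw [Finset.sum_apply, Pi.zero_apply] at h2
    rw [Matrix.mul_apply, Matrix.zero_apply, ← h2]
    exact Finset.sum_congr rfl fun a _ => by rw [bE_apply, Pi.smul_apply, smul_eq_mul]; rfl
  have hsum : (Matrix.of fun i l => d (χ (X i)) l) +
      (Matrix.of fun i l => d (algebraMap (SymE φ k) (StdB φ k) (yC φ k i)) l) = 1 := by
    ext i l
    show d (χ (X i)) l + d (algebraMap (SymE φ k) (StdB φ k) (yC φ k i)) l = _
    rw [← Pi.add_apply, ← map_add]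
    refine (congrFun (hd i) l).trans ?_
    simp [Matrix.one_apply, Pi.single_apply, eq_comm]
  rw [eq_sub_of_add_eq' hsum, mul_sub, mul_one, hEdX, sub_zero]
  rw [bE, ← Matrix.map_mul, ← Matrix.map_mul, idemJ_mul_self hk hE]

/-- A derivation of a quotient lifts to a smooth algebra, after localization. -/
theorem exists_derivation_lift {R T T' B₀ : Type u} [CommRing R] [CommRing T] [Algebra R T]
    [Algebra.FormallySmooth R T] [CommRing T'] [Algebra R T'] [CommRing B₀] [Algebra R B₀] {n : ℕ}
    (π : T →ₐ[R] B₀) (hπ : Function.Surjective π) (d₀ : Derivation R B₀ (Fin n → B₀)) :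
    ∃ l : Derivation R T (Fin n → T), ∀ t i, π (l t i) = d₀ (π t) i := by
  classical
  let _ : Algebra T B₀ := π.toRingHom.toAlgebra
  haveI : IsScalarTower R T B₀ := IsScalarTower.of_algebraMap_eq fun r => (π.commutes r).symm
  let D₀ : Derivation R T (Fin n → B₀) := d₀.compAlgebraMap T
  let g : (Fin n → T) →ₗ[T] (Fin n → B₀) := (Algebra.linearMap T B₀).compLeft (Fin n)
  have hg : Function.Surjective g := fun v => by
    choose u hu using fun i => hπ (v i)
    exact ⟨u, funext hu⟩
  obtain ⟨L, hL⟩ := Module.projective_lifting_property g D₀.liftKaehlerDifferential hg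
  refine ⟨L.compDer (KaehlerDifferential.D R T), fun t i => ?_⟩
  have := congrFun (DFunLike.congr_fun hL (KaehlerDifferential.D R T t)) i
  rw [LinearMap.comp_apply, Derivation.liftKaehlerDifferential_comp_D] at this
  exact this

/-- Derivations extend to localizations. -/
theorem exists_derivation_localization {R T T' : Type u} [CommRing R] [CommRing T] [Algebra R T]
    [CommRing T'] [Algebra R T'] [Algebra T T'] [IsScalarTower R T T'] (δ : T) [IsLocalization.Away δ T']
    {n : ℕ} (l : Derivation R T (Fin n → T)) :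
    ∃ l' : Derivation R T' (Fin n → T'), ∀ t i, l' (algebraMap T T' t) i = algebraMap T T' (l t i) := by
  classical
  let g : (Fin n → T) →ₗ[T] (Fin n → T') := (Algebra.linearMap T T').compLeft (Fin n)
  have hunits : ∀ x : Submonoid.powers δ, IsUnit (algebraMap T (Module.End T (Fin n → T')) x) := by
    rintro ⟨_, j, rfl⟩
    rw [Module.End.isUnit_iff]
    have hj : IsUnit (algebraMap T T' (δ ^ j)) := by
      rw [map_pow]; exact (IsLocalization.Away.algebraMap_isUnit δ).pow j
    have := hj.map (algebraMap T' (Module.End T' (Fin n → T')))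
    rw [Module.End.isUnit_iff] at this
    convert this using 1
    funext v
    exact (algebraMap_smul T' (δ ^ j) v).symm
  let L : Ω[T'⁄R] →ₗ[T'] (Fin n → T') :=
    (IsLocalizedModule.lift (Submonoid.powers δ) (KaehlerDifferential.map R R T T')
      (g ∘ₗ l.liftKaehlerDifferential) hunits).extendScalarsOfIsLocalization (Submonoid.powers δ) T'
  refine ⟨L.compDer (KaehlerDifferential.D R T'), fun t i => ?_⟩
  show L (KaehlerDifferential.D R T' (algebraMap T T' t)) i = _
  rw [← KaehlerDifferential.map_D R R T T']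
  show IsLocalizedModule.lift (Submonoid.powers δ) (KaehlerDifferential.map R R T T')
      (g ∘ₗ l.liftKaehlerDifferential) hunits _ i = _
  rw [IsLocalizedModule.lift_apply, LinearMap.comp_apply, Derivation.liftKaehlerDifferential_comp_D]
  rfl

/-- Inverting an element lifting `1` does not change the reduction. -/
theorem exists_away {R T B₀ : Type u} [CommRing R] [CommRing T] [Algebra R T] [CommRing B₀]
    [Algebra R B₀] (I : Ideal R) (π : T →ₐ[R] B₀) (hsur : Function.Surjective π)
    (hker : ∀ x, π x = 0 → x ∈ I.map (algebraMap R T)) (δ : T) (hδ : π δ = 1) :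
    ∃ π' : Localization.Away δ →ₐ[R] B₀, (∀ t, π' (algebraMap T _ t) = π t) ∧
      Function.Surjective π' ∧ ∀ x, π' x = 0 → x ∈ I.map (algebraMap R (Localization.Away δ)) := by
  let π' : Localization.Away δ →ₐ[R] B₀ := IsLocalization.liftAlgHom (M := Submonoid.powers δ) (f := π) (by
    rintro ⟨_, j, rfl⟩; show IsUnit (π (δ ^ j)); rw [map_pow, hδ, one_pow]; exact isUnit_one)
  have h : ∀ t, π' (algebraMap T _ t) = π t := fun t => IsLocalization.lift_eq _ _
  refine ⟨π', h, fun b => ?_, fun x hx => ?_⟩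
  · obtain ⟨t, rfl⟩ := hsur b
    exact ⟨_, h t⟩
  · obtain ⟨⟨t, ⟨_, j, rfl⟩⟩, ht⟩ := IsLocalization.surj (Submonoid.powers δ) x
    change x * algebraMap T _ (δ ^ j) = algebraMap T _ t at ht
    have h1 : π t = 0 := by
      have := congrArg π' ht
      rw [map_mul, hx, zero_mul, h] at this
      exact this.symm
    have h2 := Ideal.mem_map_of_mem (algebraMap T (Localization.Away δ)) (hker t h1)
    rw [Ideal.map_map, ← IsScalarTower.algebraMap_eq, ← ht, map_pow] at h2
    exact (Ideal.mul_unit_mem_iff_mem _ ((IsLocalization.Away.algebraMap_isUnit δ).pow j)).mp h2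

/-- Smooth algebras lift along surjections of base rings. -/
theorem exists_smooth_lift {R A₀ : Type u} [CommRing R] (I : Ideal R) [CommRing A₀]
    [Algebra (R ⧸ I) A₀] [Algebra.Smooth (R ⧸ I) A₀] [Algebra R A₀] [IsScalarTower R (R ⧸ I) A₀] :
    ∃ (A : Type u) (_ : CommRing A) (_ : Algebra R A) (_ : Algebra.Smooth R A) (ρ : A →ₐ[R] A₀),
      Function.Surjective ρ ∧ ∀ x, ρ x = 0 → x ∈ I.map (algebraMap R A) := by
  classical
  obtain ⟨n, φ, hφ, hK⟩ := Algebra.FinitePresentation.out (R := R ⧸ I) (A := A₀)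
  obtain ⟨k, hk, hEk⟩ := exists_idem φ hφ hK
  haveI := isStandardSmooth_stdB hφ hk hEk
  obtain ⟨ret, hrety'⟩ := exists_retraction (φ := φ) (k := k)
  let y₀ : Fin n → StdB φ k := fun l => algebraMap (SymE φ k) (StdB φ k) (yC φ k l)
  have hrety : ∀ l, ret (y₀ l) = 0 := hrety'
  obtain ⟨B, _, _, _, πB, hπBs, hπBk⟩ := exists_lift_standardSmooth I (StdB φ k)
  let J := I.map (algebraMap R B)
  have hJ : J ≤ RingHom.ker πB.toRingHom := Ideal.map_le_iff_le_comap.mpr fun r hr => by
    show πB (algebraMap R B r) = 0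
    rw [πB.commutes, IsScalarTower.algebraMap_apply R (R ⧸ I) (StdB φ k), Ideal.Quotient.algebraMap_eq,
      Ideal.Quotient.eq_zero_iff_mem.mpr hr, map_zero]
  let q : (B ⧸ J) →ₐ[R] StdB φ k := Ideal.Quotient.liftₐ J πB fun x hx => hJ hx
  have hqb : Function.Bijective q := ⟨(injective_iff_map_eq_zero _).mpr fun x hx => by
      obtain ⟨x, rfl⟩ := Ideal.Quotient.mk_surjective x
      exact Ideal.Quotient.eq_zero_iff_mem.mpr (hπBk x hx),
    fun b => by obtain ⟨x, rfl⟩ := hπBs b; exact ⟨Ideal.Quotient.mk _ x, rfl⟩⟩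
  let e := AlgEquiv.ofBijective q hqb
  obtain ⟨T, _, _, _, σ, hσk, hσs, E, hEE, hEσ⟩ := exists_etale_idem_lift J ((bE φ k).map e.symm) (by
    rw [← Matrix.map_mul, bE, ← Matrix.map_mul, ← Matrix.map_mul, idemJ_mul_self hk hEk])
  let _ : Algebra R T := ((algebraMap B T).comp (algebraMap R B)).toAlgebra
  haveI : IsScalarTower R B T := IsScalarTower.of_algebraMap_eq fun _ => rfl
  haveI : Algebra.Smooth R T := Algebra.Smooth.comp R B T
  let πT : T →ₐ[R] StdB φ k := e.toAlgHom.comp (σ.restrictScalars R)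
  have hπTs : Function.Surjective πT := e.surjective.comp hσs
  have hπTk : ∀ x, πT x = 0 → x ∈ I.map (algebraMap R T) := fun x hx => by
    have := hσk x (e.injective (hx.trans (map_zero e).symm))
    rwa [Ideal.map_map, ← IsScalarTower.algebraMap_eq] at this
  have hπTE : ∀ i j, πT (E i j) = bE φ k i j := fun i j => by
    show e (σ (E i j)) = _
    rw [hEσ, Matrix.map_apply, e.apply_symm_apply]
  choose yt hyt using fun l => hπTs (y₀ l)
  let w : Fin n → T := E.mulVec yt
  have hwE : ∀ i, ∑ l, E i l * w l = w i := fun i => by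
    show E.mulVec (E.mulVec yt) i = E.mulVec yt i
    rw [Matrix.mulVec_mulVec, hEE]
  have hbEy : ∀ i, ∑ l, bE φ k i l * y₀ l = y₀ i := fun i => by
    simp only [y₀, bE_apply]
    rw [← congrArg (algebraMap (SymE φ k) (StdB φ k)) (yC_eq φ k i), map_sum]
    exact Finset.sum_congr rfl fun l _ => by rw [map_mul, stdB_algebraMap]
  have hπw : ∀ i, πT (w i) = y₀ i := fun i => by
    show πT (∑ l, E i l * yt l) = _
    rw [map_sum, ← hbEy i]
    exact Finset.sum_congr rfl fun l _ => by rw [map_mul, hπTE, hyt]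
  obtain ⟨d₁, hd₁⟩ := exists_normal_derivation hφ hk hEk
  let d₀ : Derivation R (StdB φ k) (Fin n → StdB φ k) := d₁.restrictScalars R
  obtain ⟨l, hl⟩ := exists_derivation_lift (T' := T) πT hπTs d₀
  let N : Matrix (Fin n) (Fin n) T := E * (Matrix.of fun i a => l (w i) a) * E + (1 - E)
  have hδ : πT N.det = 1 := by
    rw [AlgHom.map_det]
    have hN : πT.mapMatrix N = 1 := by
      have h1 : πT.mapMatrix E = bE φ k := Matrix.ext hπTE
      have h2 : πT.mapMatrix (Matrix.of fun i a => l (w i) a) = Matrix.of fun i a => d₁ (y₀ i) a :=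
        Matrix.ext fun i a => by
          show πT (l (w i) a) = d₁ (y₀ i) a
          rw [hl, hπw]
          rfl
      rw [map_add, map_mul, map_mul, map_sub, map_one, h1, h2, hd₁, add_sub_cancel]
    rw [hN, Matrix.det_one]
  obtain ⟨π', hπ', hπ's, hπ'k⟩ := exists_away I πT hπTs hπTk N.det hδ
  let T' := Localization.Away N.det
  haveI : Algebra.Smooth T T' := Algebra.Smooth.of_isLocalization_Away N.det
  haveI : Algebra.Smooth R T' := Algebra.Smooth.comp R T T'
  obtain ⟨l', hl'⟩ := exists_derivation_localization (T' := T') N.det l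
  let al := algebraMap T T'
  let w' : Fin n → T' := fun i => al (w i)
  have hu : IsUnit (al.mapMatrix E * (Matrix.of fun i a => l' (w' i) a) * al.mapMatrix E +
      (1 - al.mapMatrix E)) := by
    have h : al.mapMatrix N = al.mapMatrix E * (Matrix.of fun i a => l' (w' i) a) * al.mapMatrix E +
        (1 - al.mapMatrix E) := by
      rw [show (Matrix.of fun i a => l' (w' i) a) = al.mapMatrix (Matrix.of fun i a => l (w i) a) from
        Matrix.ext fun i a => hl' (w i) a, map_add, map_mul, map_mul, map_sub, map_one]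
    rw [← h, Matrix.isUnit_iff_isUnit_det, ← RingHom.map_det]
    exact IsLocalization.Away.algebraMap_isUnit N.det
  haveI : Algebra.FormallySmooth R (T' ⧸ Ideal.span (Set.range w')) :=
    formallySmooth_quotient_of_idem (al.mapMatrix E) (by rw [← map_mul, hEE]) w' (fun i => by
      show ∑ a, al (E i a) * al (w a) = al (w i)
      rw [← hwE i, map_sum]
      simp only [map_mul]) l' hu
  haveI : Algebra.FinitePresentation R (T' ⧸ Ideal.span (Set.range w')) :=
    Algebra.FinitePresentation.quotient ⟨Finset.univ.image w', by simp⟩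
  let ρ₀ : T' →ₐ[R] A₀ := (ret.restrictScalars R).comp π'
  have hρw : ∀ x ∈ Ideal.span (Set.range w'), ρ₀ x = 0 := by
    suffices Ideal.span (Set.range w') ≤ RingHom.ker ρ₀.toRingHom from fun x hx => this hx
    rw [Ideal.span_le]
    rintro _ ⟨i, rfl⟩
    show ret (π' (al (w i))) = 0
    rw [hπ', hπw, hrety]
  refine ⟨T' ⧸ Ideal.span (Set.range w'), inferInstance, inferInstance, ⟨inferInstance, inferInstance⟩,
    Ideal.Quotient.liftₐ _ ρ₀ hρw, fun a => ?_, fun x hx => ?_⟩
  · obtain ⟨t, ht⟩ := hπ's (algebraMap A₀ (StdB φ k) a)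
    refine ⟨Ideal.Quotient.mk _ t, ?_⟩
    show ret (π' t) = a
    rw [ht, ret.commutes]
    rfl
  · obtain ⟨t, rfl⟩ := Ideal.Quotient.mk_surjective x
    have h1 : π' t ∈ Ideal.span (Set.range y₀) := mem_span_of_retraction ret hrety _ hx
    have h2 : Set.range y₀ = π' '' Set.range w' := by
      rw [← Set.range_comp]
      exact congrArg Set.range (funext fun i => ((hπ' (w i)).trans (hπw i)).symm)
    rw [h2, ← Ideal.map_span, Ideal.mem_map_iff_of_surjective _ hπ's] at h1
    obtain ⟨u, hu', hut⟩ := h1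
    have h3 := Ideal.mem_map_of_mem (Ideal.Quotient.mk (Ideal.span (Set.range w')))
      (hπ'k (t - u) (by rw [map_sub, hut, sub_self]))
    rw [Ideal.map_map, ← Ideal.Quotient.algebraMap_eq, ← IsScalarTower.algebraMap_eq, map_sub] at h3
    rw [show algebraMap T' (T' ⧸ Ideal.span (Set.range w')) u = 0 from Ideal.Quotient.eq_zero_iff_mem.mpr hu',
      sub_zero] at h3
    exact h3

end Groth.Agent.H9Smooth
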