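import Groth.Agent.H9Smooth.Jacobian
import Mathlib.RingTheory.Smooth.StandardSmoothOfFree
import Mathlib.RingTheory.Etale.Kaehler
import Mathlib.Algebra.TrivSqZeroExt.Basic
import Mathlib.RingTheory.Smooth.Flat

/-!
# A smooth algebra is a retract of a standard smooth one
-/

set_option autoImplicit false

universe u

open MvPolynomial Matrix

namespace Groth.Agent.H9Smooth

variable {R A : Type u} [CommRing R] [CommRing A] [Algebra R A] {n : ℕ}

/-- The Jacobian idempotent of a smooth quotient of a polynomial ring. -/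
theorem exists_idem (φ : MvPolynomial (Fin n) R →ₐ[R] A) (hφ : Function.Surjective φ)
    (hK : (RingHom.ker φ).FG) [Algebra.Smooth R A] :
    ∃ k : Fin n → MvPolynomial (Fin n) R, (∀ i, φ (k i) = 0) ∧
      ∀ p, φ p = 0 → ∀ l, ∑ i, φ (pderiv i p) * φ (pderiv l (k i)) = φ (pderiv l p) := by
  classical
  haveI : Algebra.FormallyEtale A (Localization.Away (φ 1)) :=
    Algebra.FormallyEtale.of_isLocalization (Submonoid.powers (φ 1))
  haveI : Algebra.FormallySmooth R (Localization.Away (φ 1)) := Algebra.FormallySmooth.comp R A _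
  obtain ⟨N, k, hk, hspl⟩ := exists_splitting φ hφ hK 1
  refine ⟨k, hk, fun p hp l => ?_⟩
  have hsq : ∀ z ∈ RingHom.ker φ ^ 2, φ (pderiv l z) = 0 := fun z hz => by
    rw [pow_two] at hz
    refine Submodule.mul_induction_on hz (fun a ha b hb => ?_) (fun a b ha hb => by
      rw [map_add, map_add, ha, hb, add_zero])
    rw [RingHom.mem_ker] at ha hb
    rw [pderiv_mul, map_add, map_mul, map_mul, ha, hb]
    ring
  have h1 := hsq _ (hspl p hp)
  rw [one_pow, one_mul, map_sub, map_sum, map_sub, map_sum, sub_eq_zero] at h1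
  rw [h1]
  refine Finset.sum_congr rfl fun i _ => ?_
  rw [pderiv_mul, map_add, map_mul, map_mul, show φ (k i) = 0 from hk i, mul_zero, zero_add]

variable (φ : MvPolynomial (Fin n) R →ₐ[R] A) (k : Fin n → MvPolynomial (Fin n) R)

/-- The Jacobian idempotent. -/
noncomputable def idemJ : Matrix (Fin n) (Fin n) A := Matrix.of fun i l => φ (pderiv l (k i))

/-- The ideal `(y - E y)` of `A[y]`. -/
noncomputable def relIdeal : Ideal (MvPolynomial (Fin n) A) :=
  Ideal.span (Set.range fun i => ∑ l, C (idemJ φ k i l) * X l - X i)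

/-- The symmetric algebra of the image of the idempotent. -/
abbrev SymE : Type u := MvPolynomial (Fin n) A ⧸ relIdeal φ k

/-- The class of `y l`. -/
noncomputable def yC (l : Fin n) : SymE φ k := Ideal.Quotient.mk _ (X l)

theorem yC_eq (i : Fin n) : ∑ l, algebraMap A (SymE φ k) (idemJ φ k i l) * yC φ k l = yC φ k i := by
  have h : Ideal.Quotient.mk (relIdeal φ k) (∑ l, C (idemJ φ k i l) * X l - X i) = 0 :=
    Ideal.Quotient.eq_zero_iff_mem.mpr (Ideal.subset_span ⟨i, rfl⟩)
  rw [map_sub, sub_eq_zero, map_sum] at h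
  simp only [map_mul] at h
  exact h

variable {φ k}

theorem idemJ_mul_self (hk : ∀ i, φ (k i) = 0)
    (hE : ∀ p, φ p = 0 → ∀ l, ∑ i, φ (pderiv i p) * φ (pderiv l (k i)) = φ (pderiv l p)) :
    idemJ φ k * idemJ φ k = idemJ φ k :=
  Matrix.ext fun i l => hE (k i) (hk i) l

theorem smooth_symE (hidem : idemJ φ k * idemJ φ k = idemJ φ k) : Algebra.Smooth A (SymE φ k) := by
  classical
  let q := Ideal.Quotient.mkₐ A (relIdeal φ k)
  let s₀ : MvPolynomial (Fin n) A →ₐ[A] MvPolynomial (Fin n) A := aeval fun i => ∑ l, C (idemJ φ k i l) * X l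
  let s : SymE φ k →ₐ[A] MvPolynomial (Fin n) A := Ideal.Quotient.liftₐ _ s₀ (by
    suffices relIdeal φ k ≤ RingHom.ker s₀.toRingHom from fun x hx => this hx
    rw [relIdeal, Ideal.span_le]
    rintro _ ⟨i, rfl⟩
    show s₀ _ = 0
    simp only [s₀, map_sub, map_sum, map_mul, aeval_C, aeval_X, MvPolynomial.algebraMap_eq, Finset.mul_sum]
    rw [Finset.sum_comm, sub_eq_zero]
    refine Finset.sum_congr rfl fun l _ => ?_
    conv_rhs => rw [← congrFun (congrFun hidem i) l, Matrix.mul_apply, map_sum, Finset.sum_mul]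
    exact Finset.sum_congr rfl fun a _ => by rw [map_mul, mul_assoc])
  have hqs : q.comp s = AlgHom.id A _ := by
    refine Ideal.Quotient.algHom_ext A (MvPolynomial.algHom_ext fun i => ?_)
    show q (s₀ (X i)) = q (X i)
    rw [aeval_X, map_sum]
    exact (Finset.sum_congr rfl fun l _ => map_mul q _ _).trans (yC_eq φ k i)
  have hq : Function.Surjective q := Ideal.Quotient.mk_surjective
  haveI : Algebra.FormallySmooth A (SymE φ k) :=
    Algebra.FormallySmooth.of_split q ((Ideal.Quotient.mkₐ A _).comp s) (AlgHom.ext fun x => DFunLike.congr_fun hqs x)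
  haveI : Algebra.FinitePresentation A (SymE φ k) :=
    Algebra.FinitePresentation.quotient ⟨Finset.univ.image fun i => ∑ l, C (idemJ φ k i l) * X l - X i, by
      simp [relIdeal]⟩
  exact ⟨inferInstance, inferInstance⟩

variable (φ k) in
/-- `∑ₗ yₗ ∂ₚ Eᵢₗ`, corrected on the right by `1 - E`. -/
noncomputable def derE : Matrix (Fin n) (Fin n) (SymE φ k) :=
  (Matrix.of fun i p => ∑ l, algebraMap A (SymE φ k) (φ (pderiv p (pderiv l (k i)))) * yC φ k l) *
    (1 - (idemJ φ k).map (algebraMap A (SymE φ k)))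

theorem idemJ_mul_derE (hk : ∀ i, φ (k i) = 0)
    (hE : ∀ p, φ p = 0 → ∀ l, ∑ i, φ (pderiv i p) * φ (pderiv l (k i)) = φ (pderiv l p)) :
    (idemJ φ k).map (algebraMap A (SymE φ k)) * derE φ k = 0 := by
  classical
  let r : Fin n → Fin n → MvPolynomial (Fin n) R := fun i l =>
    ∑ a, pderiv a (k i) * pderiv l (k a) - pderiv l (k i)
  have hr : ∀ i l, φ (r i l) = 0 := fun i l => by
    simp only [r, map_sub, map_sum, map_mul, sub_eq_zero]
    exact hE (k i) (hk i) l
  let al := algebraMap A (SymE φ k)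
  let G : Matrix (Fin n) (Fin n) (SymE φ k) :=
    Matrix.of fun i p => ∑ l, al (φ (pderiv p (r i l))) * yC φ k l
  let H : Matrix (Fin n) (Fin n) (SymE φ k) :=
    Matrix.of fun i p => ∑ l, al (φ (pderiv p (pderiv l (k i)))) * yC φ k l
  have h1 : (idemJ φ k).map al * H = G := by
    ext i p
    have e : ∀ l, al (φ (pderiv p (r i l))) = ∑ a, al (φ (pderiv p (pderiv a (k i)))) * al (idemJ φ k a l) +
        ∑ a, al (idemJ φ k i a) * al (φ (pderiv p (pderiv l (k a)))) - al (φ (pderiv p (pderiv l (k i)))) :=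
      fun l => by
        simp only [r, map_sub, map_sum, pderiv_mul, map_add, map_mul, Finset.sum_add_distrib]
        rfl
    simp only [G, H, Matrix.mul_apply, Matrix.of_apply, Matrix.map_apply, e, sub_mul, add_mul,
      Finset.sum_sub_distrib, Finset.sum_add_distrib, Finset.mul_sum, Finset.sum_mul]
    rw [Finset.sum_comm (f := fun l a => al (φ (pderiv p (pderiv a (k i)))) * al (idemJ φ k a l) * yC φ k l)]
    simp only [mul_assoc, ← Finset.mul_sum]
    rw [Finset.sum_congr rfl fun a _ => congrArg (al (φ (pderiv p (pderiv a (k i)))) * ·) (yC_eq φ k a),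
      add_sub_cancel_left]
    simp only [Finset.mul_sum]
    exact Finset.sum_comm
  have h2 : G * (1 - (idemJ φ k).map al) = 0 := by
    ext i q
    rw [Matrix.mul_sub, Matrix.mul_one, Matrix.sub_apply, Matrix.mul_apply, Matrix.zero_apply, sub_eq_zero]
    simp only [G, Matrix.of_apply, Matrix.map_apply, Finset.sum_mul]
    rw [Finset.sum_comm]
    refine Finset.sum_congr rfl fun l _ => ?_
    rw [← hE (r i l) (hr i l) q, map_sum, Finset.sum_mul]
    exact Finset.sum_congr rfl fun p _ => by rw [map_mul, mul_right_comm]; rfl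
  show (idemJ φ k).map al * (H * (1 - (idemJ φ k).map al)) = 0
  rw [← Matrix.mul_assoc, h1, h2]

variable (φ k) in
/-- The element to invert. -/
noncomputable def detE : SymE φ k := (1 + derE φ k).det

/-- The standard smooth algebra of which `A` is a retract. -/
abbrev StdB (φ : MvPolynomial (Fin n) R →ₐ[R] A) (k : Fin n → MvPolynomial (Fin n) R) : Type u :=
  Localization.Away (detE φ k)

variable (φ k) in
/-- The retraction `y ↦ 0`. -/
noncomputable def retr₀ : SymE φ k →ₐ[A] A :=
  Ideal.Quotient.liftₐ (relIdeal φ k) (aeval fun _ => (0 : A)) (by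
    suffices relIdeal φ k ≤ RingHom.ker (aeval fun _ : Fin n => (0 : A)).toRingHom from fun x hx => this hx
    rw [relIdeal, Ideal.span_le]
    rintro _ ⟨i, rfl⟩
    simp)

theorem retr₀_yC (l : Fin n) : retr₀ φ k (yC φ k l) = 0 := by
  show aeval (fun _ => (0 : A)) (X l) = 0
  simp

theorem retr₀_detE : retr₀ φ k (detE φ k) = 1 := by
  classical
  rw [detE, AlgHom.map_det, map_add, map_one]
  suffices (retr₀ φ k).mapMatrix (derE φ k) = 0 by rw [this, add_zero, Matrix.det_one]
  ext i p
  simp [derE, Matrix.mul_apply, retr₀_yC]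

theorem nonempty_retraction : Nonempty (StdB φ k →ₐ[A] A) :=
  ⟨IsLocalization.liftAlgHom (M := Submonoid.powers (detE φ k)) (f := retr₀ φ k) (by
    rintro ⟨_, j, rfl⟩
    show IsUnit (retr₀ φ k (detE φ k ^ j))
    rw [map_pow, retr₀_detE, one_pow]
    exact isUnit_one)⟩

theorem smooth_stdB (hidem : idemJ φ k * idemJ φ k = idemJ φ k) : Algebra.Smooth A (StdB φ k) := by
  haveI := smooth_symE hidem
  haveI : Algebra.Smooth (SymE φ k) (StdB φ k) := Algebra.Smooth.of_isLocalization_Away (detE φ k)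
  exact Algebra.Smooth.comp A (SymE φ k) _

variable (φ k) in
/-- The image of `E` in `StdB`. -/
noncomputable def bE : Matrix (Fin n) (Fin n) (StdB φ k) :=
  ((idemJ φ k).map (algebraMap A (SymE φ k))).map (algebraMap (SymE φ k) (StdB φ k))

variable (φ k) in
/-- The image of `derE` in `StdB`. -/
noncomputable def bD : Matrix (Fin n) (Fin n) (StdB φ k) :=
  (derE φ k).map (algebraMap (SymE φ k) (StdB φ k))

variable (φ k) in
/-- `∂ₚ Eᵢₗ` contracted with `y`, without the correction. -/
noncomputable def bH : Matrix (Fin n) (Fin n) (StdB φ k) :=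
  (Matrix.of fun i p => ∑ l, algebraMap A (SymE φ k) (φ (pderiv p (pderiv l (k i)))) * yC φ k l).map
    (algebraMap (SymE φ k) (StdB φ k))

theorem bD_eq : bD φ k = bH φ k * (1 - bE φ k) := by
  classical
  rw [bD, derE, Matrix.map_mul, bH, bE]
  congr 1
  rw [Matrix.map_sub _ (map_sub _), Matrix.map_one _ (map_zero _) (map_one _)]

theorem isUnit_one_add_bD : IsUnit (1 + bD φ k) := by
  classical
  rw [Matrix.isUnit_iff_isUnit_det]
  have h : (1 + bD φ k) = (algebraMap (SymE φ k) (StdB φ k)).mapMatrix (1 + derE φ k) := by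
    rw [map_add, map_one]; rfl
  rw [h, ← RingHom.map_det]
  exact IsLocalization.Away.algebraMap_isUnit (detE φ k)

/-- The solution matrix `U = dy`. -/
theorem exists_solution (hk : ∀ i, φ (k i) = 0)
    (hE : ∀ p, φ p = 0 → ∀ l, ∑ i, φ (pderiv i p) * φ (pderiv l (k i)) = φ (pderiv l p)) :
    ∃ U G : Matrix (Fin n) (Fin n) (StdB φ k), G * (1 + bD φ k) = 1 ∧ U = G * (bE φ k + bD φ k) ∧
      bE φ k * U = bE φ k ∧ U = bE φ k + bD φ k * (1 - U) := by
  classical
  obtain ⟨G, hG⟩ := (isUnit_one_add_bD (φ := φ) (k := k)).exists_left_inv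
  have hG' : (1 + bD φ k) * G = 1 := mul_eq_one_comm.mp hG
  let U := G * (bE φ k + bD φ k)
  have h1 : U = bE φ k + bD φ k * (1 - U) := by
    have : (1 + bD φ k) * U = bE φ k + bD φ k := by rw [← mul_assoc, hG', one_mul]
    rw [add_mul, one_mul] at this
    rw [mul_sub, mul_one, ← add_sub_assoc, ← this, add_sub_cancel_right]
  have hED : bE φ k * bD φ k = 0 := by
    rw [bE, bD, ← Matrix.map_mul, idemJ_mul_derE hk hE, Matrix.map_zero _ (map_zero _)]
  have hEE : bE φ k * bE φ k = bE φ k := by
    rw [bE, ← Matrix.map_mul, ← Matrix.map_mul, idemJ_mul_self hk hE]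
  refine ⟨U, G, hG, rfl, ?_, h1⟩
  rw [h1, mul_add, ← mul_assoc, hED, zero_mul, add_zero, hEE]

theorem aeval_snd {B : Type u} [CommRing B] [Algebra R B] (χ : MvPolynomial (Fin n) R →ₐ[R] B)
    (D : Fin n → (Fin n → B)) (ψ : MvPolynomial (Fin n) R →ₐ[R] TrivSqZeroExt B (Fin n → B))
    (hψ : ∀ i, ψ (X i) = TrivSqZeroExt.inl (χ (X i)) + TrivSqZeroExt.inr (D i))
    (p : MvPolynomial (Fin n) R) :
    (ψ p).fst = χ p ∧ (ψ p).snd = ∑ i, χ (pderiv i p) • D i := by
  classical
  induction p using MvPolynomial.induction_on with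
  | C r => simp [← MvPolynomial.algebraMap_eq, TrivSqZeroExt.algebraMap_eq_inl']
  | add p q hp hq =>
    simp [map_add, hp.1, hq.1, hp.2, hq.2, add_smul, Finset.sum_add_distrib]
  | mul_X p i hp =>
    rw [map_mul, map_mul, TrivSqZeroExt.fst_mul, TrivSqZeroExt.snd_mul, hp.1, hp.2, hψ]
    refine ⟨by simp, ?_⟩
    simp only [TrivSqZeroExt.fst_add, TrivSqZeroExt.snd_add, TrivSqZeroExt.fst_inl, TrivSqZeroExt.fst_inr,
      TrivSqZeroExt.snd_inl, TrivSqZeroExt.snd_inr, add_zero, zero_add, op_smul_eq_smul, Finset.smul_sum,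
      smul_smul, pderiv_mul, pderiv_X, map_add, map_mul, add_smul, Finset.sum_add_distrib]
    rw [add_comm]
    congr 1
    · exact Finset.sum_congr rfl fun l _ => by rw [mul_comm]
    · rw [Finset.sum_eq_single i (fun l _ hl => by simp [Pi.single_eq_of_ne hl.symm])
        (fun h => absurd (Finset.mem_univ i) h)]
      simp

theorem fst_mem_range_sum {M B : Type u} [CommRing B] [AddCommGroup M] [Module B M] {m : ℕ}
    (S : Submodule B M) (G : Matrix (Fin m) (Fin m) B) (N : Matrix (Fin m) (Fin m) B) (hG : G * N = 1)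
    (v : Fin m → M) (h : ∀ i, ∑ j, N i j • v j ∈ S) (i : Fin m) : v i ∈ S := by
  classical
  have : ∑ a, G i a • ∑ j, N a j • v j = v i := by
    simp only [Finset.smul_sum, smul_smul]
    rw [Finset.sum_comm]
    simp only [← Finset.sum_smul, ← Matrix.mul_apply, hG, Matrix.one_apply, ite_smul, one_smul, zero_smul]
    simp
  rw [← this]
  exact S.sum_mem fun a _ => S.smul_mem _ (h a)

/-- Criterion: elements whose differentials span and are dual to a derivation. -/
theorem isStandardSmooth_of_derivation {B : Type u} [CommRing B] [Algebra R B] [Algebra.Smooth R B]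
    (z : Fin n → B) (d : Derivation R B (Fin n → B)) (hdz : ∀ i, d (z i) = Pi.single i 1)
    (hspan : Submodule.span B (Set.range fun i => KaehlerDifferential.D R B (z i)) = ⊤) :
    Algebra.IsStandardSmooth R B := by
  classical
  let π : (Fin n → B) →ₗ[B] Ω[B⁄R] := Fintype.linearCombination B fun i => KaehlerDifferential.D R B (z i)
  have hleft : ∀ v, d.liftKaehlerDifferential (π v) = v := fun v => by
    conv_rhs => rw [pi_eq_sum_univ' v]
    simp only [π, Fintype.linearCombination_apply, map_sum, map_smul,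
      Derivation.liftKaehlerDifferential_comp_D, hdz]
  have htop : LinearMap.range π = ⊤ := by
    rw [← hspan]; exact Fintype.range_linearCombination B _
  let e := LinearEquiv.ofBijective π
    ⟨Function.LeftInverse.injective hleft, LinearMap.range_eq_top.mp htop⟩
  refine Algebra.IsStandardSmooth.of_basis_kaehlerDifferential ((Pi.basisFun B (Fin n)).map e) ?_
  rintro _ ⟨i, rfl⟩
  refine ⟨z i, ?_⟩
  rw [Module.Basis.map_apply, Pi.basisFun_apply]
  show _ = π (Pi.single i 1)
  simp only [π]
  rw [Fintype.linearCombination_apply_single, one_smul]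

theorem derivation_aeval {B M : Type u} [CommRing B] [Algebra R B] [AddCommGroup M] [Module B M]
    [Module R M] [IsScalarTower R B M] (D : Derivation R B M) (χ : MvPolynomial (Fin n) R →ₐ[R] B)
    (p : MvPolynomial (Fin n) R) : D (χ p) = ∑ i, χ (pderiv i p) • D (χ (X i)) := by
  classical
  induction p using MvPolynomial.induction_on with
  | C r => simp [← MvPolynomial.algebraMap_eq]
  | add p q hp hq => simp only [map_add, hp, hq, add_smul, Finset.sum_add_distrib]
  | mul_X p j hp =>
    rw [map_mul, Derivation.leibniz, hp, Finset.smul_sum]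
    simp only [pderiv_mul, pderiv_X, map_add, map_mul, add_smul, Finset.sum_add_distrib, smul_smul]
    rw [add_comm]
    congr 1
    · exact Finset.sum_congr rfl fun i _ => by rw [mul_comm]
    · rw [Finset.sum_eq_single j (fun i _ hi => by simp [Pi.single_eq_of_ne hi.symm])
        (fun h => absurd (Finset.mem_univ j) h)]
      simp

/-- The first order deformation of the map out of `A`. -/
theorem exists_tsze_hom {B : Type u} [CommRing B] [Algebra R B] [Algebra A B] [IsScalarTower R A B]
    (φ : MvPolynomial (Fin n) R →ₐ[R] A) (hφ : Function.Surjective φ)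
    (E V : Matrix (Fin n) (Fin n) B)
    (hJ : ∀ p, φ p = 0 → ∀ i, algebraMap A B (φ (pderiv i p)) = ∑ a, algebraMap A B (φ (pderiv a p)) * E a i)
    (hEV : E * V = 0) :
    ∃ ψ : A →ₐ[R] TrivSqZeroExt B (Fin n → B), ∀ p, (ψ (φ p)).fst = algebraMap A B (φ p) ∧
      (ψ (φ p)).snd = ∑ i, algebraMap A B (φ (pderiv i p)) • V i := by
  classical
  let χ : MvPolynomial (Fin n) R →ₐ[R] B := (IsScalarTower.toAlgHom R A B).comp φ
  let ψ₀ : MvPolynomial (Fin n) R →ₐ[R] TrivSqZeroExt B (Fin n → B) :=
    aeval fun i => TrivSqZeroExt.inl (χ (X i)) + TrivSqZeroExt.inr (V i)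
  have hψ₀ := aeval_snd χ (fun i => V i) ψ₀ fun i => aeval_X _ _
  have hkill : ∀ p, φ p = 0 → ψ₀ p = 0 := fun p hp => by
    refine TrivSqZeroExt.ext ?_ ?_
    · rw [(hψ₀ p).1]
      show algebraMap A B (φ p) = 0
      rw [hp, map_zero]
    · rw [(hψ₀ p).2, TrivSqZeroExt.snd_zero]
      funext q
      rw [Finset.sum_apply, Pi.zero_apply]
      simp only [Pi.smul_apply, smul_eq_mul]
      show ∑ i, algebraMap A B (φ (pderiv i p)) * V i q = 0
      rw [Finset.sum_congr rfl fun i _ => congrArg (· * V i q) (hJ p hp i)]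
      simp only [Finset.sum_mul]
      rw [Finset.sum_comm]
      refine Finset.sum_eq_zero fun a _ => ?_
      simp only [mul_assoc, ← Finset.mul_sum, ← Matrix.mul_apply, hEV, Matrix.zero_apply, mul_zero]
  refine ⟨AlgHom.liftOfSurjective φ hφ ψ₀ fun p hp => hkill p hp, fun p => ?_⟩
  erw [AlgHom.liftOfSurjective_apply]
  exact hψ₀ p

/-- The derivation dual to the differentials of `x + y`. -/
theorem exists_derivation_quotient {C B : Type u} [CommRing C] [CommRing B] [Algebra R C] [Algebra A C]
    [IsScalarTower R A C] [Algebra C B] [Algebra R B] [IsScalarTower R C B]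
    (δ : C) [IsLocalization.Away δ B]
    (ψA : A →ₐ[R] TrivSqZeroExt B (Fin n → B)) (I : Ideal (MvPolynomial (Fin n) A))
    (q : MvPolynomial (Fin n) A →ₐ[A] C) (hq : Function.Surjective q) (hker : ∀ x, q x = 0 → x ∈ I)
    (y : Fin n → C) (hy : ∀ i, q (X i) = y i)
    (hfstA : ∀ a, (ψA a).fst = algebraMap C B (algebraMap A C a)) (U : Fin n → (Fin n → B))
    (hI : I ≤ RingHom.ker (eval₂Hom ψA.toRingHom
      fun i => TrivSqZeroExt.inl (algebraMap C B (y i)) + TrivSqZeroExt.inr (U i))) :
    ∃ d : Derivation R B (Fin n → B), (∀ a, d (algebraMap C B (algebraMap A C a)) = (ψA a).snd) ∧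
      ∀ i, d (algebraMap C B (y i)) = U i := by
  classical
  let ψP : MvPolynomial (Fin n) A →+* TrivSqZeroExt B (Fin n → B) := eval₂Hom ψA.toRingHom
    fun i => TrivSqZeroExt.inl (algebraMap C B (y i)) + TrivSqZeroExt.inr (U i)
  let ψC : C →+* TrivSqZeroExt B (Fin n → B) :=
    RingHom.liftOfSurjective q.toRingHom hq ⟨ψP, fun x hx => hI (hker x hx)⟩
  have hψC : ∀ x, ψC (q x) = ψP x := fun x =>
    RingHom.liftOfRightInverse_comp_apply q.toRingHom _ _ _ x
  have hψCy : ∀ i, ψC (y i) = TrivSqZeroExt.inl (algebraMap C B (y i)) + TrivSqZeroExt.inr (U i) :=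
    fun i => by rw [← hy i, hψC, hy i]; exact eval₂Hom_X' _ _ _
  have hψCa : ∀ a, ψC (algebraMap A C a) = ψA a := fun a => by
    rw [← q.commutes, hψC, MvPolynomial.algebraMap_eq]; exact eval₂Hom_C _ _ _
  have hfst : ∀ c, (ψC c).fst = algebraMap C B c := fun c => by
    obtain ⟨c, rfl⟩ := hq c
    induction c using MvPolynomial.induction_on with
    | C a => rw [← MvPolynomial.algebraMap_eq, q.commutes, hψCa, hfstA]
    | add p r hp hr => rw [map_add, map_add, map_add, TrivSqZeroExt.fst_add, hp, hr]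
    | mul_X p i hp =>
      rw [map_mul, map_mul, map_mul, TrivSqZeroExt.fst_mul, hp, hy, hψCy]
      simp only [TrivSqZeroExt.fst_add, TrivSqZeroExt.fst_inl, TrivSqZeroExt.fst_inr, add_zero]
  let ψB : B →+* TrivSqZeroExt B (Fin n → B) := IsLocalization.Away.lift δ (g := ψC) (by
    rw [TrivSqZeroExt.isUnit_iff_isUnit_fst, hfst]
    exact IsLocalization.Away.algebraMap_isUnit δ)
  have hψB : ∀ c, ψB (algebraMap C B c) = ψC c := fun c => IsLocalization.Away.lift_eq _ _ _
  have hfB : ∀ b, (ψB b).fst = b := fun b => by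
    have : (TrivSqZeroExt.fstHom R B (Fin n → B)).toRingHom.comp ψB = RingHom.id _ :=
      IsLocalization.ringHom_ext (Submonoid.powers δ) (RingHom.ext fun c =>
        (congrArg TrivSqZeroExt.fst (hψB c)).trans (hfst c))
    exact DFunLike.congr_fun this b
  have hψR : ∀ r : R, ψB (algebraMap R B r) = algebraMap R _ r := fun r => by
    rw [IsScalarTower.algebraMap_apply R C B, hψB, IsScalarTower.algebraMap_apply R A C, hψCa,
      AlgHom.commutes]
  refine ⟨Derivation.mk'
      { toFun := fun b => (ψB b).snd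
        map_add' := fun a b => by rw [map_add, TrivSqZeroExt.snd_add]
        map_smul' := fun r b => by
          rw [Algebra.smul_def, map_mul, hψR, RingHom.id_apply, ← Algebra.smul_def, TrivSqZeroExt.snd_smul] }
      fun a b => ?_, fun a => ?_, fun i => ?_⟩
  · show (ψB (a * b)).snd = a • (ψB b).snd + b • (ψB a).snd
    rw [map_mul, TrivSqZeroExt.snd_mul, hfB, hfB, op_smul_eq_smul]
  · show (ψB _).snd = _
    rw [hψB, hψCa]
  · show (ψB _).snd = _
    rw [hψB, hψCy]
    simp

theorem stdB_algebraMap (a : A) : algebraMap A (StdB φ k) a =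
    algebraMap (SymE φ k) (StdB φ k) (algebraMap A (SymE φ k) a) :=
  IsScalarTower.algebraMap_apply A (SymE φ k) (StdB φ k) a

theorem bE_apply (i j : Fin n) : bE φ k i j = algebraMap A (StdB φ k) (idemJ φ k i j) :=
  (stdB_algebraMap _).symm

theorem bH_apply (i p : Fin n) : bH φ k i p = ∑ l, algebraMap A (StdB φ k) (φ (pderiv p (pderiv l (k i)))) *
    algebraMap (SymE φ k) (StdB φ k) (yC φ k l) := by
  simp only [bH, Matrix.map_apply, Matrix.of_apply, map_sum, map_mul, ← stdB_algebraMap]

/-- The derivation dual to `x + y`. -/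
theorem exists_dual (hφ : Function.Surjective φ) (hk : ∀ i, φ (k i) = 0)
    (hE : ∀ p, φ p = 0 → ∀ l, ∑ i, φ (pderiv i p) * φ (pderiv l (k i)) = φ (pderiv l p)) :
    ∃ d : Derivation R (StdB φ k) (Fin n → StdB φ k), ∀ i,
      d (algebraMap A (StdB φ k) (φ (X i)) + algebraMap (SymE φ k) (StdB φ k) (yC φ k i)) = Pi.single i 1 := by
  classical
  obtain ⟨U, G, -, -, hEU, hU⟩ := exists_solution hk hE
  have hE1U : bE φ k * (1 - U) = 0 := by rw [mul_sub, mul_one, hEU, sub_self]
  obtain ⟨ψA, hψA⟩ := exists_tsze_hom φ hφ (bE φ k) (1 - U) (fun p hp i => by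
    rw [← hE p hp i, map_sum]
    exact Finset.sum_congr rfl fun a _ => by rw [bE_apply, map_mul]; rfl) hE1U
  have hfA : ∀ a, (ψA a).fst = algebraMap (SymE φ k) (StdB φ k) (algebraMap A (SymE φ k) a) := fun a => by
    obtain ⟨p, rfl⟩ := hφ a
    rw [(hψA p).1, stdB_algebraMap]
  have h2 : U = bE φ k * U + bH φ k * (1 - U) := by
    conv_lhs => rw [hU, bD_eq, Matrix.mul_assoc, sub_mul 1 (bE φ k), one_mul, hE1U, sub_zero]
    rw [hEU]
  obtain ⟨d, hdA, hdy⟩ := exists_derivation_quotient (detE φ k) ψA (relIdeal φ k)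
    (Ideal.Quotient.mkₐ A (relIdeal φ k)) Ideal.Quotient.mk_surjective
    (fun x hx => Ideal.Quotient.eq_zero_iff_mem.mp hx) (yC φ k) (fun i => rfl) hfA (fun i => U i) (by
      refine Ideal.span_le.mpr ?_
      rintro _ ⟨i, rfl⟩
      show eval₂Hom ψA.toRingHom _ _ = 0
      simp only [map_sub, map_sum, map_mul, eval₂Hom_C, eval₂Hom_X']
      refine TrivSqZeroExt.ext ?_ ?_
      · simp only [TrivSqZeroExt.fst_sub, TrivSqZeroExt.fst_sum, TrivSqZeroExt.fst_mul, TrivSqZeroExt.fst_add,
          TrivSqZeroExt.fst_inl, TrivSqZeroExt.fst_inr, add_zero, TrivSqZeroExt.fst_zero, sub_eq_zero]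
        rw [← congrArg (algebraMap (SymE φ k) (StdB φ k)) (yC_eq φ k i), map_sum]
        exact Finset.sum_congr rfl fun l _ => by rw [map_mul, ← hfA]; rfl
      · simp only [TrivSqZeroExt.snd_sub, TrivSqZeroExt.snd_sum, TrivSqZeroExt.snd_mul, TrivSqZeroExt.fst_add,
          TrivSqZeroExt.fst_inl, TrivSqZeroExt.fst_inr, TrivSqZeroExt.snd_add, TrivSqZeroExt.snd_inl,
          TrivSqZeroExt.snd_inr, add_zero, zero_add, TrivSqZeroExt.snd_zero, sub_eq_zero, op_smul_eq_smul]
        funext q
        rw [Finset.sum_apply]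
        simp only [Pi.add_apply, Pi.smul_apply, smul_eq_mul, Finset.sum_add_distrib]
        conv_rhs => rw [h2, Matrix.add_apply, Matrix.mul_apply, Matrix.mul_apply]
        congr 1
        · refine Finset.sum_congr rfl fun l _ => ?_
          rw [show ψA.toRingHom (idemJ φ k i l) = ψA (φ (pderiv l (k i))) from rfl, (hψA _).1, bE_apply]
          rfl
        · simp only [bH_apply, Finset.sum_mul]
          rw [Finset.sum_comm (f := fun p l => algebraMap A (StdB φ k) (φ (pderiv p (pderiv l (k i)))) *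
            algebraMap (SymE φ k) (StdB φ k) (yC φ k l) * (1 - U) p q)]
          refine Finset.sum_congr rfl fun l _ => ?_
          rw [show ψA.toRingHom (idemJ φ k i l) = ψA (φ (pderiv l (k i))) from rfl, (hψA _).2,
            Finset.sum_apply, Finset.mul_sum]
          refine Finset.sum_congr rfl fun p _ => ?_
          rw [Pi.smul_apply, smul_eq_mul]
          ring)
  refine ⟨d, fun i => ?_⟩
  rw [map_add, hdy, stdB_algebraMap, hdA, (hψA _).2,
    Finset.sum_eq_single i (fun l _ hl => by simp [pderiv_X, Pi.single_eq_of_ne hl.symm])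
      (fun h => absurd (Finset.mem_univ i) h)]
  funext q
  simp [Matrix.one_apply, Pi.single_apply, eq_comm]

/-- The differentials of `x + y` span. -/
theorem span_D_eq_top (hφ : Function.Surjective φ) (hk : ∀ i, φ (k i) = 0)
    (hE : ∀ p, φ p = 0 → ∀ l, ∑ i, φ (pderiv i p) * φ (pderiv l (k i)) = φ (pderiv l p)) :
    Submodule.span (StdB φ k) (Set.range fun i => KaehlerDifferential.D R (StdB φ k)
      (algebraMap A (StdB φ k) (φ (X i)) + algebraMap (SymE φ k) (StdB φ k) (yC φ k i))) = ⊤ := by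
  classical
  obtain ⟨U, G, hG, -, -, -⟩ := exists_solution hk hE
  let χ : MvPolynomial (Fin n) R →ₐ[R] StdB φ k := (IsScalarTower.toAlgHom R A (StdB φ k)).comp φ
  let D := KaehlerDifferential.D R (StdB φ k)
  let dX : Fin n → Ω[StdB φ k⁄R] := fun i => D (χ (X i))
  let dY : Fin n → Ω[StdB φ k⁄R] := fun i => D (algebraMap (SymE φ k) (StdB φ k) (yC φ k i))
  set S := Submodule.span (StdB φ k) (Set.range fun i => D
      (algebraMap A (StdB φ k) (φ (X i)) + algebraMap (SymE φ k) (StdB φ k) (yC φ k i))) with hS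
  have hz : ∀ i, dX i + dY i ∈ S := fun i => by
    rw [show dX i + dY i = D (algebraMap A (StdB φ k) (φ (X i)) + algebraMap (SymE φ k) (StdB φ k) (yC φ k i))
      from (map_add D _ _).symm]
    exact Submodule.subset_span ⟨i, rfl⟩
  have hEdX : ∀ i, ∑ l, bE φ k i l • dX l = 0 := fun i => by
    have h1 : D (χ (k i)) = 0 := by
      rw [show χ (k i) = 0 from by show algebraMap A _ (φ _) = 0; rw [hk, map_zero], map_zero]
    rw [derivation_aeval D χ (k i)] at h1
    rw [← h1]
    exact Finset.sum_congr rfl fun l _ => by rw [bE_apply]; rfl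
  have hdY : ∀ i, dY i = ∑ l, bE φ k i l • dY l + ∑ p, bD φ k i p • dX p := fun i => by
    have h0 : ∑ p, bD φ k i p • dX p = ∑ p, bH φ k i p • dX p := by
      rw [bD_eq, mul_sub, mul_one]
      simp only [Matrix.sub_apply, sub_smul, Finset.sum_sub_distrib, Matrix.mul_apply, Finset.sum_smul]
      rw [sub_eq_self, Finset.sum_comm]
      refine Finset.sum_eq_zero fun a _ => ?_
      simp only [mul_smul, ← Finset.smul_sum, hEdX, smul_zero]
    rw [h0]
    conv_lhs => simp only [dY]; rw [← congrArg (algebraMap (SymE φ k) (StdB φ k)) (yC_eq φ k i)]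
    simp only [map_sum, map_mul, Derivation.leibniz, Finset.sum_add_distrib]
    refine congrArg₂ (· + ·) ?_ ?_
    · exact Finset.sum_congr rfl fun l _ => by rw [bE_apply, stdB_algebraMap]
    · simp only [bH_apply, Finset.sum_smul]
      rw [Finset.sum_comm]
      refine Finset.sum_congr rfl fun l _ => ?_
      rw [← stdB_algebraMap, show algebraMap A (StdB φ k) (idemJ φ k i l) = χ (pderiv l (k i)) from rfl,
        derivation_aeval D χ (pderiv l (k i)), Finset.smul_sum]
      refine Finset.sum_congr rfl fun p _ => ?_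
      rw [smul_smul, mul_comm]
      rfl
  have hY : ∀ i, dY i ∈ S := fst_mem_range_sum S G (1 + bD φ k) hG dY fun i => by
    have e : ∑ j, (1 + bD φ k) i j • dY j =
        ∑ l, bE φ k i l • (dX l + dY l) + ∑ p, bD φ k i p • (dX p + dY p) := by
      simp only [Matrix.add_apply, add_smul, Finset.sum_add_distrib, smul_add, hEdX, zero_add,
        Matrix.one_apply, ite_smul, one_smul, zero_smul]
      rw [Finset.sum_ite_eq Finset.univ i dY, if_pos (Finset.mem_univ i)]
      conv_lhs => rw [hdY i]
      abel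
    rw [e]
    exact add_mem (S.sum_mem fun l _ => S.smul_mem _ (hz l)) (S.sum_mem fun p _ => S.smul_mem _ (hz p))
  have hX : ∀ i, dX i ∈ S := fun i => by
    rw [show dX i = dX i + dY i - dY i by abel]; exact sub_mem (hz i) (hY i)
  rw [eq_top_iff, ← KaehlerDifferential.span_range_map_derivation_of_isLocalization R (SymE φ k)
      (StdB φ k) (Submonoid.powers (detE φ k)), Submodule.span_le]
  rintro _ ⟨c, rfl⟩
  show KaehlerDifferential.map R R (SymE φ k) (StdB φ k) (KaehlerDifferential.D R _ c) ∈ S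
  rw [KaehlerDifferential.map_D]
  obtain ⟨c, rfl⟩ := Ideal.Quotient.mk_surjective c
  induction c using MvPolynomial.induction_on with
  | C a =>
    obtain ⟨p, rfl⟩ := hφ a
    show D (algebraMap (SymE φ k) (StdB φ k) (algebraMap A (SymE φ k) (φ p))) ∈ S
    rw [← stdB_algebraMap, show algebraMap A (StdB φ k) (φ p) = χ p from rfl, derivation_aeval D χ p]
    exact S.sum_mem fun i _ => S.smul_mem _ (hX i)
  | add p q hp hq => rw [map_add, map_add, map_add]; exact add_mem hp hq
  | mul_X p i hp =>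
    rw [map_mul, map_mul, Derivation.leibniz]
    exact add_mem (S.smul_mem _ (hY i)) (S.smul_mem _ hp)

/-- The standard smooth algebra of which the smooth algebra is a retract. -/
theorem isStandardSmooth_stdB (hφ : Function.Surjective φ) [Algebra.Smooth R A] (hk : ∀ i, φ (k i) = 0)
    (hE : ∀ p, φ p = 0 → ∀ l, ∑ i, φ (pderiv i p) * φ (pderiv l (k i)) = φ (pderiv l p)) :
    Algebra.IsStandardSmooth R (StdB φ k) := by
  haveI := smooth_stdB (φ := φ) (k := k) (idemJ_mul_self hk hE)
  haveI : Algebra.Smooth R (StdB φ k) := Algebra.Smooth.comp R A _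
  obtain ⟨d, hd⟩ := exists_dual hφ hk hE
  exact isStandardSmooth_of_derivation _ d hd (span_D_eq_top hφ hk hE)

/-- A smooth algebra is a retract of a standard smooth algebra which is smooth over it. -/
theorem exists_smooth_retract_isStandardSmooth (R A : Type u) [CommRing R] [CommRing A] [Algebra R A]
    [Algebra.Smooth R A] :
    ∃ (B : Type u) (_ : CommRing B) (_ : Algebra R B) (_ : Algebra A B) (_ : IsScalarTower R A B),
      Algebra.Smooth A B ∧ Nonempty (B →ₐ[A] A) ∧ Algebra.IsStandardSmooth R B := by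
  obtain ⟨n, φ, hφ, hK⟩ := Algebra.FinitePresentation.out (R := R) (A := A)
  obtain ⟨k, hk, hE⟩ := exists_idem φ hφ hK
  exact ⟨StdB φ k, inferInstance, inferInstance, inferInstance, inferInstance,
    smooth_stdB (idemJ_mul_self hk hE), nonempty_retraction, isStandardSmooth_stdB hφ hk hE⟩

end Groth.Agent.H9Smooth
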