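import Groth.Agent.H9Hens.Newton
import Mathlib.RingTheory.Smooth.Locus
import Mathlib.LinearAlgebra.Matrix.Charpoly.LinearMap
import Mathlib.LinearAlgebra.Matrix.Adjugate
import Mathlib.LinearAlgebra.LinearIndependent.Lemmas
import Mathlib.LinearAlgebra.Matrix.Rank

/-!
# Smooth quotients of polynomial rings: splitting and Jacobian minors
-/

set_option autoImplicit false

universe u

open MvPolynomial

namespace Groth.Agent.H9Smooth

variable {R A : Type u} [CommRing R] [CommRing A] [Algebra R A] {n : ℕ}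

/-- Infinitesimal splitting: a square zero thickening `B` of a quotient to which the smooth algebra
`L` maps compatibly gives first order expansions of the elements of the kernel. -/
theorem exists_first_order {L B : Type u} [CommRing L] [Algebra R L] [CommRing B] [Algebra R B]
    [Algebra.FormallySmooth R L] (ι : MvPolynomial (Fin n) R →ₐ[R] B) (I : Ideal B) (hI2 : I ^ 2 = ⊥)
    (ψ : MvPolynomial (Fin n) R →ₐ[R] L) (g₁ : L →ₐ[R] B ⧸ I)
    (hg₁ : ∀ x, g₁ (ψ x) = Ideal.Quotient.mk I (ι x)) :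
    ∃ δ : Fin n → B, (∀ i, δ i ∈ I) ∧ ∀ p, ψ p = 0 → ι p = ∑ i, ι (pderiv i p) * δ i := by
  obtain ⟨f, hf⟩ := Algebra.FormallySmooth.exists_lift I ⟨2, hI2⟩ g₁
  let σ : MvPolynomial (Fin n) R →ₐ[R] B := f.comp ψ
  have hσι : ∀ p, ι p - σ p ∈ I := fun p => by
    rw [← Ideal.Quotient.eq]
    have h1 := DFunLike.congr_fun hf (ψ p)
    rw [hg₁] at h1
    exact h1.symm
  let δ : Fin n → B := fun i => ι (X i) - σ (X i)
  have hδ : ∀ i, δ i ∈ I := fun i => hσι _
  refine ⟨δ, hδ, fun p hp => ?_⟩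
  have hev : ∀ (χ : MvPolynomial (Fin n) R →ₐ[R] B) (q : MvPolynomial (Fin n) R),
      aeval (fun i => χ (X i)) q = χ q := fun χ q => (DFunLike.congr_fun (MvPolynomial.aeval_unique χ) q).symm
  have h1 := H9Hens.aeval_add_sub_taylor_mem I (fun i => σ (X i)) δ hδ p
  rw [hI2, Ideal.mem_bot] at h1
  have e1 : aeval (fun i => σ (X i) + δ i) p = ι p := by
    rw [show (fun i => σ (X i) + δ i) = fun i => ι (X i) from funext fun i => add_sub_cancel _ _, hev]
  have e2 : aeval (fun i => σ (X i)) p = 0 := by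
    rw [hev]; show f (ψ p) = 0; rw [hp, map_zero]
  rw [e1, e2, sub_zero, sub_eq_zero] at h1
  rw [h1]
  refine Finset.sum_congr rfl fun i _ => ?_
  rw [hev, ← sub_eq_zero, ← sub_mul, ← Ideal.mem_bot, ← hI2, pow_two]
  refine Ideal.mul_mem_mul ?_ (hδ i)
  rw [← neg_sub]
  exact neg_mem (hσι _)

/-- Uniformizing the exponent of the homotopy over the finitely generated ideal `K`. -/
theorem exists_uniform {P : Type u} [CommRing P] [Algebra R P] (D : Fin n → Derivation R P P)
    (K : Ideal P) (hK : K.FG) (g G : P) (k : Fin n → P) (hk : ∀ i, k i ∈ K)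
    (hzero : ∀ p ∈ K, ∃ M : ℕ, g ^ M * (G * p - ∑ i, D i p * k i) ∈ K ^ 2) :
    ∃ M : ℕ, ∀ p ∈ K, g ^ M * (G * p - ∑ i, D i p * k i) ∈ K ^ 2 := by
  classical
  obtain ⟨T, hT⟩ := hK
  choose M hM using fun p : T => hzero p.1 (hT.le (Submodule.subset_span p.2))
  refine ⟨Finset.univ.sup M, fun p hp => ?_⟩
  have hp' : p ∈ Submodule.span P (T : Set P) := hT.ge hp
  clear hp
  induction hp' using Submodule.span_induction with
  | mem x hx =>
    have hle : M ⟨x, hx⟩ ≤ Finset.univ.sup M := Finset.le_sup (Finset.mem_univ _)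
    rw [← Nat.sub_add_cancel hle, pow_add, mul_assoc]
    exact Ideal.mul_mem_left _ _ (hM ⟨x, hx⟩)
  | zero => simp
  | add x y _ _ hx hy =>
    rw [show g ^ Finset.univ.sup M * (G * (x + y) - ∑ i, D i (x + y) * k i) =
      g ^ Finset.univ.sup M * (G * x - ∑ i, D i x * k i) +
        g ^ Finset.univ.sup M * (G * y - ∑ i, D i y * k i) by
      simp only [map_add, add_mul, Finset.sum_add_distrib]; ring]
    exact add_mem hx hy
  | smul r x hxm hx =>
    have hxK : x ∈ K := hT ▸ hxm
    have h2 : ∑ i, x * D i r * k i ∈ K ^ 2 := Ideal.sum_mem _ fun i _ => by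
      rw [mul_comm x, mul_assoc, pow_two]
      exact Ideal.mul_mem_left _ _ (Ideal.mul_mem_mul hxK (hk i))
    rw [show g ^ Finset.univ.sup M * (G * (r • x) - ∑ i, D i (r • x) * k i) =
      r * (g ^ Finset.univ.sup M * (G * x - ∑ i, D i x * k i)) -
        g ^ Finset.univ.sup M * ∑ i, x * D i r * k i by
      simp only [smul_eq_mul, Derivation.leibniz, add_mul, Finset.sum_add_distrib]
      rw [show ∑ i, r * D i x * k i = r * ∑ i, D i x * k i by
        rw [Finset.mul_sum]; exact Finset.sum_congr rfl fun i _ => mul_assoc _ _ _]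
      ring]
    exact sub_mem (Ideal.mul_mem_left _ _ hx) (Ideal.mul_mem_left _ _ h2)

/-- Clearing denominators. -/
theorem exists_numerator {P B : Type u} [CommRing P] [CommRing B] (q : P →+* B) (K : Ideal P) (g : P)
    [Algebra (P ⧸ K ^ 2) B] [IsLocalization.Away (Ideal.Quotient.mk (K ^ 2) g) B]
    (hq : ∀ x, q x = algebraMap (P ⧸ K ^ 2) B (Ideal.Quotient.mk _ x)) :
    (∀ y ∈ K.map q, ∃ (N : ℕ) (k : P), k ∈ K ∧ q g ^ N * y = q k) ∧
      ∀ x, q x = 0 → ∃ M : ℕ, g ^ M * x ∈ K ^ 2 := by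
  constructor
  · intro y hy
    have hy' : y ∈ (K.map (Ideal.Quotient.mk (K ^ 2))).map (algebraMap (P ⧸ K ^ 2) B) := by
      rw [Ideal.map_map, show (algebraMap (P ⧸ K ^ 2) B).comp (Ideal.Quotient.mk (K ^ 2)) = q from
        RingHom.ext fun x => (hq x).symm]
      exact hy
    obtain ⟨⟨⟨c, hc⟩, ⟨_, N, rfl⟩⟩, h⟩ :=
      (IsLocalization.mem_map_algebraMap_iff
        (Submonoid.powers (Ideal.Quotient.mk (K ^ 2) g)) B).mp hy'
    obtain ⟨k, hk, rfl⟩ :=
      (Ideal.mem_map_iff_of_surjective _ Ideal.Quotient.mk_surjective).mp hc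
    refine ⟨N, k, hk, ?_⟩
    rw [mul_comm, hq, hq, ← map_pow]
    exact h
  · intro x hx
    rw [hq] at hx
    obtain ⟨⟨_, M, rfl⟩, hM⟩ :=
      (IsLocalization.map_eq_zero_iff (Submonoid.powers (Ideal.Quotient.mk (K ^ 2) g)) B _).mp hx
    exact ⟨M, Ideal.Quotient.eq_zero_iff_mem.mp (by rw [map_mul, map_pow]; exact hM)⟩

/-- If `A = R[x]/K` is formally smooth after inverting `φ g`, then some power of `g` is a homotopy:
`g ^ N * p ≡ ∑ ∂ᵢp * kᵢ` modulo `K ^ 2` for `p ∈ K`, with fixed `kᵢ ∈ K`. -/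
theorem exists_splitting (φ : MvPolynomial (Fin n) R →ₐ[R] A) (hφ : Function.Surjective φ)
    (hK : (RingHom.ker φ).FG) (g : MvPolynomial (Fin n) R)
    [Algebra.FormallySmooth R (Localization.Away (φ g))] :
    ∃ (N : ℕ) (k : Fin n → MvPolynomial (Fin n) R), (∀ i, k i ∈ RingHom.ker φ) ∧
      ∀ p ∈ RingHom.ker φ, g ^ N * p - ∑ i, pderiv i p * k i ∈ RingHom.ker φ ^ 2 := by
  classical
  obtain ⟨K, hKdef⟩ : ∃ K : Ideal (MvPolynomial (Fin n) R), K = RingHom.ker φ := ⟨_, rfl⟩
  rw [← hKdef] at hK ⊢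
  let C := MvPolynomial (Fin n) R ⧸ K ^ 2
  let B := Localization.Away (Ideal.Quotient.mk (K ^ 2) g)
  let ι : MvPolynomial (Fin n) R →ₐ[R] B :=
    (IsScalarTower.toAlgHom R C B).comp (Ideal.Quotient.mkₐ R (K ^ 2))
  obtain ⟨hnum, hden⟩ := exists_numerator (B := B) ι.toRingHom K g fun x => rfl
  have hg : IsUnit (ι g) := IsLocalization.Away.algebraMap_isUnit (S := B) (Ideal.Quotient.mk (K ^ 2) g)
  have hι2 : ∀ x ∈ K ^ 2, ι x = 0 := fun x hx => by
    show algebraMap C B (Ideal.Quotient.mk _ x) = 0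
    rw [Ideal.Quotient.eq_zero_iff_mem.mpr hx, map_zero]
  have hI2 : (K.map ι) ^ 2 = ⊥ := by
    rw [← Ideal.map_pow, Ideal.map_eq_bot_iff_le_ker]
    exact hι2
  let g₀ : A →ₐ[R] B ⧸ K.map ι := AlgHom.liftOfSurjective φ hφ ((Ideal.Quotient.mkₐ R _).comp ι)
    fun x hx => Ideal.Quotient.eq_zero_iff_mem.mpr (Ideal.mem_map_of_mem ι (hKdef ▸ hx))
  have hg₀ : ∀ x, g₀ (φ x) = Ideal.Quotient.mk _ (ι x) := fun x => AlgHom.liftOfSurjective_apply ..
  have hu : IsUnit (g₀ (φ g)) := by rw [hg₀]; exact hg.map _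
  let g₁ : Localization.Away (φ g) →ₐ[R] B ⧸ K.map ι :=
    IsLocalization.liftAlgHom (M := Submonoid.powers (φ g)) (f := g₀) (by
      rintro ⟨_, j, rfl⟩; show IsUnit (g₀ (φ g ^ j)); rw [map_pow]; exact hu.pow j)
  obtain ⟨δ, hδ, hexp⟩ := exists_first_order ι (K.map ι) hI2
    ((IsScalarTower.toAlgHom R A (Localization.Away (φ g))).comp φ) g₁
    fun x => (IsLocalization.lift_eq _ (φ x)).trans (hg₀ x)
  choose N k hk hkδ using fun i => hnum (δ i) (hδ i)
  let k' : Fin n → MvPolynomial (Fin n) R := fun i => g ^ (Finset.univ.sup N - N i) * k i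
  obtain ⟨M, hM⟩ := exists_uniform (fun i => pderiv i) K hK g (g ^ Finset.univ.sup N) k'
    (fun i => K.mul_mem_left _ (hk i)) fun p hp => hden _ (by
      show ι _ = 0
      have hp' : φ p = 0 := by rw [← RingHom.mem_ker, ← hKdef]; exact hp
      rw [map_sub, map_mul, map_pow, hexp p (by rw [AlgHom.comp_apply, hp', map_zero]), map_sum,
        Finset.mul_sum, sub_eq_zero]
      refine Finset.sum_congr rfl fun i hi => ?_
      have h2 : ι g ^ N i * δ i = ι (k i) := hkδ i
      rw [map_mul, map_mul, map_pow, ← h2, mul_left_comm, ← mul_assoc (ι g ^ _) (ι g ^ _),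
        ← pow_add, Nat.sub_add_cancel (Finset.le_sup hi)])
  refine ⟨M + Finset.univ.sup N, fun i => g ^ M * k' i,
    fun i => K.mul_mem_left _ (K.mul_mem_left _ (hk i)), fun p hp => ?_⟩
  rw [show g ^ (M + Finset.univ.sup N) * p - ∑ i, pderiv i p * (g ^ M * k' i) =
      g ^ M * (g ^ Finset.univ.sup N * p - ∑ i, pderiv i p * k' i) by
    rw [mul_sub, Finset.mul_sum, pow_add, mul_assoc]
    congr 1
    exact Finset.sum_congr rfl fun i _ => by ring]
  exact hM p hp

/-- A maximal nonzero minor of a matrix over a field. -/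
theorem exists_minor {k : Type*} [Field k] {m : ℕ} (v : Fin m → Fin n → k) :
    ∃ (c : ℕ) (rows : Fin c ↪ Fin m) (cols : Fin c ↪ Fin n),
      (Matrix.of fun a b => v (rows a) (cols b)).det ≠ 0 ∧
      ∀ l, v l ∈ Submodule.span k (Set.range fun a => v (rows a)) := by
  classical
  obtain ⟨κ, r, hr, hsp, hli⟩ := exists_linearIndependent' k v
  haveI : Finite κ := Finite.of_injective r hr
  haveI := Fintype.ofFinite κ
  let e := (Fintype.equivFin κ).symm
  let rows : Fin (Fintype.card κ) ↪ Fin m := ⟨r ∘ e, hr.comp e.injective⟩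
  let W : Matrix (Fin (Fintype.card κ)) (Fin n) k := Matrix.of fun a b => v (rows a) b
  have hW : LinearIndependent k W.row := hli.comp e e.injective
  have hrk : W.rank = Fintype.card κ := by
    rw [hW.rank_matrix, Fintype.card_fin]
  obtain ⟨κ', s, hs, hsp', hli'⟩ := exists_linearIndependent' k W.col
  haveI : Finite κ' := Finite.of_injective s hs
  haveI := Fintype.ofFinite κ'
  have hcard : Fintype.card κ' = Fintype.card κ := by
    rw [← finrank_span_eq_card hli', hsp', ← Matrix.rank_eq_finrank_span_cols, hrk]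
  let e' := (Fintype.equivFinOfCardEq hcard).symm
  refine ⟨_, rows, ⟨s ∘ e', hs.comp e'.injective⟩, ?_, fun l => ?_⟩
  · have hcols : LinearIndependent k
        (Matrix.of fun a b => v (rows a) (s (e' b)) : Matrix _ _ k).col :=
      hli'.comp e' e'.injective
    have := (Matrix.linearIndependent_cols_iff_isUnit.mp hcols)
    rw [Matrix.isUnit_iff_isUnit_det] at this
    exact this.ne_zero
  · rw [show Set.range (fun a => v (rows a)) = Set.range (v ∘ r) from
      e.surjective.range_comp (v ∘ r), hsp]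
    exact Submodule.subset_span ⟨l, rfl⟩

/-- If `b` maps `K` into `J ⊔ 𝔭 • K` for a prime `𝔭` not containing `b`, then an element outside `𝔭`
maps `K` into `J`. -/
theorem exists_notMem_mul_mem {P : Type u} [CommRing P] (K J 𝔭 : Ideal P) [𝔭.IsPrime] (hK : K.FG)
    (b : P) (hb : b ∉ 𝔭) (h : ∀ x ∈ K, b * x ∈ J ⊔ 𝔭 * K) :
    ∃ r : P, r ∉ 𝔭 ∧ ∀ x ∈ K, r * x ∈ J := by
  let N : Submodule P (P ⧸ J) := Submodule.map (Submodule.mkQ J) K
  haveI : Module.Finite P N := Module.Finite.iff_fg.mpr (Submodule.FG.map (Submodule.mkQ J) hK)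
  have hN : LinearMap.range (algebraMap P (Module.End P N) b) ≤ 𝔭 • (⊤ : Submodule P N) := by
    rintro _ ⟨⟨_, x, hx, rfl⟩, rfl⟩
    obtain ⟨j, hj, k, hk, hjk⟩ := Submodule.mem_sup.mp (h x hx)
    rw [Submodule.mem_smul_top_iff]
    show b • Submodule.mkQ J x ∈ 𝔭 • N
    rw [← map_smul, smul_eq_mul, ← hjk, map_add, Submodule.mkQ_apply, Submodule.mkQ_apply,
      (Submodule.Quotient.mk_eq_zero J).mpr hj, zero_add, ← Submodule.map_smul'']
    exact Submodule.mem_map_of_mem (f := Submodule.mkQ J) hk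
  obtain ⟨p, hp, -, hc, h0⟩ :=
    LinearMap.exists_monic_and_natDegree_eq_and_coeff_mem_pow_and_aeval_eq_zero (R := P) (M := N) _ 𝔭 hN
  refine ⟨p.eval b, fun hmem => hb ?_, fun x hx => ?_⟩
  · rw [Polynomial.eval_eq_sum_range, Finset.sum_range_succ, hp.coeff_natDegree, one_mul] at hmem
    refine Ideal.IsPrime.mem_of_pow_mem ‹_› p.natDegree ((Ideal.add_mem_iff_right _ ?_).mp hmem)
    refine sum_mem fun k hk => Ideal.mul_mem_right _ _ ?_
    have hk' : p.natDegree - k ≠ 0 := by have := Finset.mem_range.mp hk; omega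
    exact Ideal.pow_le_self hk' (hc k)
  · rw [Polynomial.aeval_algebraMap_apply, Polynomial.coe_aeval_eq_eval] at h0
    have := congrArg Subtype.val (DFunLike.congr_fun h0 ⟨_, x, hx, rfl⟩)
    rw [← Submodule.Quotient.mk_eq_zero J]
    exact this

/-- At a smooth point there is a Jacobian minor outside the prime such that the remaining relations
are, after multiplication by an element outside the prime, combinations of the chosen ones. -/
theorem exists_minor_of_isSmoothAt {m : ℕ} (f : Fin m → MvPolynomial (Fin n) R)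
    (φ : MvPolynomial (Fin n) R →ₐ[R] A) (hφ : Function.Surjective φ)
    (hker : RingHom.ker φ = Ideal.span (Set.range f)) (q : Ideal A) [q.IsPrime]
    [Algebra.IsSmoothAt R q] :
    ∃ (c : ℕ) (rows : Fin c ↪ Fin m) (cols : Fin c ↪ Fin n) (r : MvPolynomial (Fin n) R),
      φ r ∉ q ∧ φ (Matrix.of fun a b => pderiv (cols b) (f (rows a))).det ∉ q ∧
      ∀ x ∈ RingHom.ker φ, r * x ∈ Ideal.span (Set.range (f ∘ rows)) := by
  classical
  have hfgK : (RingHom.ker φ).FG := ⟨Finset.univ.image f, by simp [hker]⟩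
  haveI : Algebra.FinitePresentation R A := Algebra.FinitePresentation.of_surjective hφ hfgK
  obtain ⟨g₀, hg₀, hsm⟩ := Algebra.IsSmoothAt.exists_notMem_smooth R q
  obtain ⟨g, rfl⟩ := hφ g₀
  obtain ⟨N, k, hk, hspl⟩ := exists_splitting φ hφ hfgK g
  let P := MvPolynomial (Fin n) R
  let Q : Ideal P := q.comap φ
  have hQ : ∀ x : P, x ∈ Q ↔ φ x ∈ q := fun x => Iff.rfl
  have hKQ : RingHom.ker φ ≤ Q := fun x hx => by rw [hQ, show φ x = 0 from hx]; exact zero_mem _
  let π : P →+* q.ResidueField := (algebraMap A q.ResidueField).comp φ.toRingHom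
  have hπ : ∀ x : P, π x = 0 ↔ x ∈ Q := fun x => Ideal.algebraMap_residueField_eq_zero
  obtain ⟨c, rows, cols, hdet, hspan⟩ := exists_minor fun l i => π (pderiv i (f l))
  let D : Matrix (Fin c) (Fin c) P := Matrix.of fun a b => pderiv (cols b) (f (rows a))
  have hDdet : π D.det ≠ 0 := by rw [RingHom.map_det]; exact hdet
  let J := Ideal.span (Set.range (f ∘ rows))
  have hJK : J ≤ RingHom.ker φ := by
    rw [hker]
    exact Ideal.span_mono (Set.range_comp_subset_range _ _)
  have hb : D.det * g ^ N ∉ Q := by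
    have hgQ : g ∉ Q := fun h => hg₀ h
    refine fun h => ((Ideal.IsPrime.mem_or_mem inferInstance h).elim (fun h' => hDdet ((hπ _).mpr h'))
      fun h' => hgQ (Ideal.IsPrime.mem_of_pow_mem inferInstance N h'))
  have h1 : ∀ x ∈ RingHom.ker φ, D.det * g ^ N * x ∈ J ⊔ Q * RingHom.ker φ := by
    suffices ∀ l, D.det * g ^ N * f l ∈ J ⊔ Q * RingHom.ker φ by
      intro x hx
      rw [hker] at hx
      induction hx using Submodule.span_induction with
      | mem y hy => obtain ⟨l, rfl⟩ := hy; exact this l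
      | zero => simp
      | add x y _ _ hx hy => rw [mul_add]; exact add_mem hx hy
      | smul r x _ hx => rw [smul_eq_mul, mul_left_comm]; exact Ideal.mul_mem_left _ _ hx
    intro l
    let lam : Fin c → P := Matrix.vecMul (fun b => pderiv (cols b) (f l)) D.adjugate
    let y := D.det * f l - ∑ a, lam a * f (rows a)
    have hrows : ∀ a, f (rows a) ∈ J := fun a => Ideal.subset_span ⟨a, rfl⟩
    have hy : y ∈ RingHom.ker φ :=
      sub_mem (Ideal.mul_mem_left _ _ (hker ▸ Ideal.subset_span ⟨l, rfl⟩))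
        (Ideal.sum_mem _ fun a _ => Ideal.mul_mem_left _ _ (hJK (hrows a)))
    have hadj : ∀ b, ∑ a, lam a * D a b = D.det * pderiv (cols b) (f l) := fun b => by
      have : Matrix.vecMul lam D = fun b => D.det * pderiv (cols b) (f l) := by
        rw [Matrix.vecMul_vecMul, Matrix.adjugate_mul]
        funext b
        simp [Matrix.vecMul_smul, Matrix.vecMul_one]
      exact congrFun this b
    have hyQ : ∀ i, pderiv i y ∈ Q := fun i => by
      have e : pderiv i y = (D.det * pderiv i (f l) - ∑ a, lam a * pderiv i (f (rows a))) +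
          (pderiv i D.det * f l - ∑ a, pderiv i (lam a) * f (rows a)) := by
        simp only [y, map_sub, map_sum, Derivation.leibniz, smul_eq_mul, Finset.sum_add_distrib, mul_comm (f (rows _))]; ring
      rw [e]
      refine add_mem ?_ (hKQ (sub_mem (Ideal.mul_mem_left _ _ (hker ▸ Ideal.subset_span ⟨l, rfl⟩))
        (Ideal.sum_mem _ fun a _ => Ideal.mul_mem_left _ _ (hJK (hrows a)))))
      rw [← hπ]
      obtain ⟨μ, hμ⟩ := (Submodule.mem_span_range_iff_exists_fun _).mp (hspan l)
      have hμ' : ∀ i, π (pderiv i (f l)) = ∑ a, μ a * π (pderiv i (f (rows a))) := fun i => by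
        have := congrFun hμ i
        simpa [Finset.sum_apply] using this.symm
      let w : Fin c → q.ResidueField := fun a => π D.det * μ a - π (lam a)
      have hw0 : Matrix.vecMul w (D.map π) = 0 := funext fun b => by
        have h2 := congrArg π (hadj b)
        rw [map_sum, map_mul, hμ' (cols b), Finset.mul_sum] at h2
        simp only [map_mul] at h2
        simp only [Matrix.vecMul, dotProduct, Matrix.map_apply, w, sub_mul, Finset.sum_sub_distrib,
          Pi.zero_apply, mul_assoc]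
        rw [sub_eq_zero]
        exact h2.symm
      have hw : w = 0 := by
        refine Matrix.eq_zero_of_vecMul_eq_zero ?_ hw0
        rw [← RingHom.mapMatrix_apply, ← RingHom.map_det]
        exact hDdet
      rw [map_sub, map_mul, map_sum, hμ' i, Finset.mul_sum, ← Finset.sum_sub_distrib]
      refine Finset.sum_eq_zero fun a _ => ?_
      rw [map_mul, ← mul_assoc, ← sub_mul, show π D.det * μ a - π (lam a) = 0 from congrFun hw a, zero_mul]
    have hgy : g ^ N * y ∈ Q * RingHom.ker φ := by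
      have h3 := hspl y hy
      rw [pow_two] at h3
      rw [← sub_add_cancel (g ^ N * y) (∑ i, pderiv i y * k i)]
      exact add_mem (Ideal.mul_mono_left hKQ h3)
        (Ideal.sum_mem _ fun i _ => Ideal.mul_mem_mul (hyQ i) (hk i))
    rw [show D.det * g ^ N * f l = g ^ N * y + g ^ N * ∑ a, lam a * f (rows a) by simp only [y]; ring]
    exact add_mem (Ideal.mem_sup_right hgy)
      (Ideal.mem_sup_left (Ideal.mul_mem_left _ _ (Ideal.sum_mem _ fun a _ => Ideal.mul_mem_left _ _ (hrows a))))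
  obtain ⟨r, hr, hrK⟩ := exists_notMem_mul_mem (RingHom.ker φ) J Q hfgK _ hb h1
  exact ⟨c, rows, cols, r, fun h => hr h, fun h => hDdet ((hπ _).mpr h), hrK⟩

end Groth.Agent.H9Smooth
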