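import Groth.Prelude.Def_Smoothing
import Groth.Agent.H9Smooth.Jacobian
import Groth.Agent.S2032
import Mathlib.Logic.Equiv.Fintype
import Mathlib.RingTheory.Smooth.Flat

/-!
# Standard elements and the smooth locus
-/

set_option autoImplicit false

universe u

open MvPolynomial

namespace Groth.Agent.H9Smooth

variable {R A : Type u} [CommRing R] [CommRing A] [Algebra R A] {n m c : ℕ}

/-- A minor of chosen leading rows and columns, together with the tail condition, gives an elementary
standard element. -/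
theorem isElementaryStandard_of_minor (f : Fin m → MvPolynomial (Fin n) R)
    (φ : MvPolynomial (Fin n) R →ₐ[R] A) (hφ : Function.Surjective φ)
    (hker : RingHom.ker φ = Ideal.span (Set.range f)) (rows : Fin c ↪ Fin m) (cols : Fin c ↪ Fin n)
    (a : A) (ha : ∃ a', a = a' * φ (Smoothing.jacobianMinor f rows cols))
    (hk : ∀ a₁, φ a₁ = a → ∀ j : Fin m, j ∉ Set.range rows →
      a₁ * f j ∈ Ideal.span (Set.range (f ∘ rows)) ⊔ Ideal.span (Set.range f) ^ 2) :
    Smoothing.IsElementaryStandard R A a := by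
  classical
  have hcm : c ≤ m := by simpa using Fintype.card_le_of_embedding rows
  have hcn : c ≤ n := by simpa using Fintype.card_le_of_embedding cols
  obtain ⟨σ, hσ⟩ := Equiv.Perm.exists_extending_pair (Fin.castLE hcm) rows
    (Fin.castLE_injective hcm) rows.injective
  obtain ⟨τ, hτ⟩ := Equiv.Perm.exists_extending_pair (Fin.castLE hcn) cols
    (Fin.castLE_injective hcn) cols.injective
  let e := renameEquiv R (τ.symm : Fin n ≃ Fin n)
  let P : Smoothing.MarkedPresentation R A :=
    { n := n
      m := m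
      c := c
      hcn := hcn
      hcm := hcm
      rel := fun j => e (f (σ j))
      hom := φ.comp e.symm.toAlgHom
      surj := hφ.comp e.symm.surjective
      ker_eq := by
        have h1 : RingHom.ker φ = Ideal.span (Set.range (f ∘ σ)) := by
          rw [hker, σ.surjective.range_comp]
        have h2 : (RingHom.ker φ).map e = Ideal.span (Set.range fun j => e (f (σ j))) := by
          rw [h1, Ideal.map_span, ← Set.range_comp]
          rfl
        rw [← h2]
        refine le_antisymm (fun x hx => ?_) (Ideal.map_le_iff_le_comap.mpr fun x hx => ?_)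
        · rw [← e.apply_symm_apply x]
          exact Ideal.mem_map_of_mem _ hx
        · show φ (e.symm (e x)) = 0
          rw [e.symm_apply_apply]
          exact hx }
  have hσ' : ∀ i : Fin c, σ (Fin.castLE hcm i) = rows i := hσ
  have hτ' : ∀ i : Fin c, τ (Fin.castLE hcn i) = cols i := hτ
  refine ⟨P, ?_, fun a₁ ha₁ j hj => ?_⟩
  · obtain ⟨a', ha'⟩ := ha
    refine ⟨a', ha'.trans (congrArg _ ?_)⟩
    show φ _ = φ (e.symm _)
    congr 1
    rw [Smoothing.jacobianMinor, Smoothing.jacobianMinor, AlgEquiv.map_det]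
    congr 1
    ext1 a b
    show pderiv (cols b) (f (rows a)) = e.symm (pderiv (Fin.castLE hcn b) (e (f (σ (Fin.castLE hcm a)))))
    rw [hσ', show Fin.castLE hcn b = τ.symm (cols b) by rw [← hτ', τ.symm_apply_apply]]
    show _ = e.symm (pderiv (τ.symm (cols b)) (rename τ.symm (f (rows a))))
    rw [pderiv_rename τ.symm.injective]
    exact (e.symm_apply_apply _).symm
  · change Fin m at j
    have h1 := hk (e.symm a₁) ha₁ (σ j) fun ⟨i, hi⟩ => by
      rw [← hσ' i] at hi
      rw [← σ.injective hi] at hj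
      exact absurd hj (not_le.mpr i.2)
    have h2 := Ideal.mem_map_of_mem e h1
    rw [map_mul, e.apply_symm_apply, Ideal.map_sup, Ideal.map_pow, Ideal.map_span, Ideal.map_span,
      ← Set.range_comp, ← Set.range_comp] at h2
    refine SetLike.le_def.mp (sup_le_sup (Ideal.span_mono ?_) (Ideal.pow_right_mono (le_of_eq ?_) 2)) h2
    · rintro _ ⟨i, rfl⟩
      exact ⟨Fin.castLE hcm i, i.2, congrArg (fun z => e (f z)) (hσ' i)⟩
    · show _ = Ideal.span (Set.range ((e ∘ f) ∘ σ))
      rw [σ.surjective.range_comp]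

theorem jacobianMinor_eq_zero (f : Fin m → MvPolynomial (Fin n) R) (rows : Fin c → Fin m)
    (cols : Fin c → Fin n) (h : ¬ Function.Injective cols) :
    Smoothing.jacobianMinor f rows cols = 0 := by
  simp only [Function.Injective, not_forall] at h
  obtain ⟨i, j, hij, hne⟩ := h
  rw [Smoothing.jacobianMinor]
  exact Matrix.det_zero_of_column_eq hne fun k => by simp [hij]

/-- Each column choice of a strictly standard element gives an elementary standard element. -/
theorem isElementaryStandard_mul (P : Smoothing.MarkedPresentation R A) (a : A)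
    (hk : Smoothing.KillsTail P a) (cols : Fin P.c ↪ Fin P.n) :
    Smoothing.IsElementaryStandard R A
      (a * P.hom (Smoothing.jacobianMinor P.rel (Fin.castLE P.hcm) cols)) := by
  refine isElementaryStandard_of_minor P.rel P.hom P.surj P.ker_eq ⟨_, Fin.castLE_injective P.hcm⟩ cols
    _ ⟨a, rfl⟩ fun a₁ ha₁ j hj => ?_
  obtain ⟨b, rfl⟩ := P.surj a
  have hf : P.rel j ∈ Ideal.span (Set.range P.rel) := Ideal.subset_span ⟨j, rfl⟩
  let μ := Smoothing.jacobianMinor P.rel (Fin.castLE P.hcm) cols
  have h1 := hk b rfl j (le_of_not_gt fun h => hj ⟨⟨j, h⟩, rfl⟩)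
  rw [show a₁ * P.rel j = μ * (b * P.rel j) + (a₁ - b * μ) * P.rel j by ring]
  refine add_mem (Ideal.mul_mem_left _ _ ?_) (Ideal.mem_sup_right ?_)
  · have he : P.rel '' {j' : Fin P.m | (j' : ℕ) < P.c} =
        Set.range (P.rel ∘ (⟨_, Fin.castLE_injective P.hcm⟩ : Fin P.c ↪ Fin P.m)) := by
      ext x
      exact ⟨fun ⟨i, hi, hx⟩ => ⟨⟨i, hi⟩, hx⟩, fun ⟨i, hx⟩ => ⟨Fin.castLE P.hcm i, i.2, hx⟩⟩
    rwa [he] at h1
  · rw [pow_two]
    refine Ideal.mul_mem_mul ?_ hf
    rw [← P.ker_eq]
    show P.hom (a₁ - b * μ) = 0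
    rw [map_sub, map_mul, ha₁]
    exact sub_self _

/-- The strictly standard elements are in the span of the products with the minors. -/
theorem exists_minor_notMem (P : Smoothing.MarkedPresentation R A) (a : A)
    (ha : a ∈ Ideal.span (Set.range fun cols : Fin P.c → Fin P.n =>
        P.hom (Smoothing.jacobianMinor P.rel (Fin.castLE P.hcm) cols))) (q : Ideal A) [q.IsPrime]
    (haq : a ∉ q) :
    ∃ cols : Fin P.c ↪ Fin P.n, a * P.hom (Smoothing.jacobianMinor P.rel (Fin.castLE P.hcm) cols) ∉ q := by
  by_contra! h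
  refine haq (Ideal.span_le.mpr ?_ ha)
  rintro _ ⟨cols, rfl⟩
  by_cases hc : Function.Injective cols
  · exact (Ideal.IsPrime.mem_or_mem ‹_› (h ⟨cols, hc⟩)).resolve_left haq
  · show P.hom _ ∈ q
    rw [jacobianMinor_eq_zero _ _ _ hc, map_zero]
    exact zero_mem _

theorem finitePresentation (P : Smoothing.MarkedPresentation R A) : Algebra.FinitePresentation R A := by
  classical exact Algebra.FinitePresentation.of_surjective P.surj (P.ker_eq ▸ ⟨Finset.univ.image P.rel, by simp⟩)

theorem basicOpen_subset_smoothLocus_of_isElementaryStandard {a : A}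
    (ha : Smoothing.IsElementaryStandard R A a) :
    ↑(PrimeSpectrum.basicOpen a) ⊆ Algebra.smoothLocus R A := by
  obtain ⟨P, hP⟩ := ha
  haveI := finitePresentation P
  haveI := S2032.result a ⟨P, hP⟩
  exact Algebra.basicOpen_subset_smoothLocus_iff_smooth.mpr inferInstance

theorem basicOpen_subset_smoothLocus_of_isStrictlyStandard {a : A}
    (ha : Smoothing.IsStrictlyStandard R A a) :
    ↑(PrimeSpectrum.basicOpen a) ⊆ Algebra.smoothLocus R A := by
  intro q hq
  obtain ⟨P, hs, hk⟩ := ha
  obtain ⟨cols, hc⟩ := exists_minor_notMem P a hs q.asIdeal hq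
  exact basicOpen_subset_smoothLocus_of_isElementaryStandard (isElementaryStandard_mul P a hk cols) hc

theorem smooth_away_of_isStrictlyStandard {a : A} (ha : Smoothing.IsStrictlyStandard R A a) :
    Algebra.Smooth R (Localization.Away a) := by
  haveI := finitePresentation ha.choose
  exact Algebra.basicOpen_subset_smoothLocus_iff_smooth.mp
    (basicOpen_subset_smoothLocus_of_isStrictlyStandard ha)

/-- Every smooth point lies on the basic open set of an elementary standard element. -/
theorem exists_isElementaryStandard_notMem [Algebra.FinitePresentation R A] (q : Ideal A) [q.IsPrime]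
    [Algebra.IsSmoothAt R q] : ∃ a : A, Smoothing.IsElementaryStandard R A a ∧ a ∉ q := by
  obtain ⟨n, φ, hφ, hfg⟩ := Algebra.FinitePresentation.out (R := R) (A := A)
  obtain ⟨m, f, hf⟩ := Submodule.fg_iff_exists_fin_generating_family.mp hfg
  have hker : RingHom.ker φ = Ideal.span (Set.range f) := hf.symm
  obtain ⟨c, rows, cols, r, hr, hμ, hrK⟩ := exists_minor_of_isSmoothAt f φ hφ hker q
  let μ := Smoothing.jacobianMinor f rows cols
  refine ⟨φ r * φ μ, isElementaryStandard_of_minor f φ hφ hker rows cols _ ⟨φ r, rfl⟩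
    fun a₁ ha₁ j _ => ?_, fun h => (Ideal.IsPrime.mem_or_mem ‹_› h).elim hr hμ⟩
  have hj : f j ∈ Ideal.span (Set.range f) := Ideal.subset_span ⟨j, rfl⟩
  rw [show a₁ * f j = μ * (r * f j) + (a₁ - r * μ) * f j by ring]
  refine add_mem (Ideal.mem_sup_left (Ideal.mul_mem_left _ _ (hrK _ (hker ▸ hj)))) (Ideal.mem_sup_right ?_)
  rw [pow_two]
  refine Ideal.mul_mem_mul ?_ hj
  rw [← hker]
  show φ (a₁ - r * μ) = 0
  rw [map_sub, map_mul, ha₁, sub_self]

theorem isStrictlyStandard_of_isElementaryStandard {a : A} (ha : Smoothing.IsElementaryStandard R A a) :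
    Smoothing.IsStrictlyStandard R A a := by
  obtain ⟨P, ⟨a', ha'⟩, hk⟩ := ha
  refine ⟨P, ?_, hk⟩
  rw [ha']
  exact Ideal.mul_mem_left _ _ (Ideal.subset_span ⟨Fin.castLE P.hcn, rfl⟩)

theorem mem_singularIdeal {a : A}
    (h : ↑(PrimeSpectrum.basicOpen a) ⊆ Algebra.smoothLocus R A) : a ∈ Smoothing.singularIdeal R A := by
  rw [Smoothing.singularIdeal, PrimeSpectrum.mem_vanishingIdeal]
  intro q hq
  by_contra hn
  exact hq (h hn)

end Groth.Agent.H9Smooth
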