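import Groth.Prelude.Def_Smoothing
import Groth.Agent.H9Smooth.Lift
import Mathlib.RingTheory.Flat.EquationalCriterion
import Mathlib.RingTheory.Flat.FaithfullyFlat.Algebra
import Mathlib.RingTheory.Flat.Stability

/-!
# Ind-smoothness lifts along nilpotent thickenings
-/

set_option autoImplicit false

universe u

open MvPolynomial

namespace Groth.Agent.H9Smooth

variable {R : Type u} [CommRing R]

theorem mem_map_iff_exists_sum {B : Type u} [CommRing B] [Algebra R B] (I : Ideal R) {x : B}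
    (hx : x ∈ I.map (algebraMap R B)) :
    ∃ (m : ℕ) (ι : Fin m → R) (b : Fin m → B), (∀ l, ι l ∈ I) ∧ x = ∑ l, ι l • b l := by
  rw [← Submodule.restrictScalars_mem R, ← Ideal.smul_top_eq_map] at hx
  refine Submodule.smul_induction_on hx (fun r hr b _ => ⟨1, fun _ => r, fun _ => b, fun _ => hr, by simp⟩) ?_
  rintro _ _ ⟨m, ι, b, hι, rfl⟩ ⟨m', ι', b', hι', rfl⟩
  refine ⟨m + m', Fin.append ι ι', Fin.append b b', fun l => ?_, by simp [Fin.sum_univ_add]⟩
  induction l using Fin.addCases with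
  | left l => simpa using hι l
  | right l => simpa using hι' l

theorem smul_mem_map {B : Type u} [CommRing B] [Algebra R B] (I : Ideal R) {r : R} (hr : r ∈ I) (b : B) :
    r • b ∈ I.map (algebraMap R B) := by
  rw [Algebra.smul_def]
  exact Ideal.mul_mem_right _ _ (Ideal.mem_map_of_mem _ hr)

theorem smul_eq_zero_of_mem_map {B : Type u} [CommRing B] [Algebra R B] {I : Ideal R} (hI : I ^ 2 = ⊥)
    {r : R} (hr : r ∈ I) {b : B} (hb : b ∈ I.map (algebraMap R B)) : r • b = 0 := by
  have h : algebraMap R B r * b ∈ (I ^ 2).map (algebraMap R B) := by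
    rw [pow_two, Ideal.map_mul]; exact Ideal.mul_mem_mul (Ideal.mem_map_of_mem _ hr) hb
  rw [hI, Ideal.map_bot, Ideal.mem_bot] at h
  rwa [Algebra.smul_def]

theorem sq_map_eq_bot {B : Type u} [CommRing B] [Algebra R B] {I : Ideal R} (hI : I ^ 2 = ⊥) :
    (I.map (algebraMap R B)) ^ 2 = ⊥ := by
  rw [← Ideal.map_pow, hI, Ideal.map_bot]

/-- A map from a finitely presented `R / I`-algebra to `Λ / IΛ` factors through the reduction of a
smooth `R`-algebra mapping to `Λ`. -/
theorem exists_smooth_factor {Λ D : Type u} [CommRing Λ] [Algebra R Λ] {I : Ideal R} (hI : I ^ 2 = ⊥)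
    (h : Smoothing.IndSmooth (R ⧸ I) (Λ ⧸ I.map (algebraMap R Λ))) [CommRing D] [Algebra (R ⧸ I) D]
    [Algebra.FinitePresentation (R ⧸ I) D] (f : D →ₐ[R ⧸ I] Λ ⧸ I.map (algebraMap R Λ)) :
    ∃ (B' : Type u) (_ : CommRing B') (_ : Algebra R B') (_ : Algebra.Smooth R B')
      (β : B' →ₐ[R] Λ) (τ : D →+* B' ⧸ I.map (algebraMap R B')),
      (∀ r, τ (algebraMap (R ⧸ I) D (Ideal.Quotient.mk I r)) =
        Ideal.Quotient.mk _ (algebraMap R B' r)) ∧
      ∀ x b, τ x = Ideal.Quotient.mk _ b → f x = Ideal.Quotient.mk _ (β b) := by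
  obtain ⟨Bb, _, _, _, g, η, hgη⟩ := h D inferInstance f
  let _ : Algebra R Bb := ((algebraMap (R ⧸ I) Bb).comp (Ideal.Quotient.mk I)).toAlgebra
  haveI : IsScalarTower R (R ⧸ I) Bb := IsScalarTower.of_algebraMap_eq fun _ => rfl
  obtain ⟨B', _, _, _, ρ, hρs, hρk⟩ := exists_smooth_lift I (A₀ := Bb)
  obtain ⟨β, hβ⟩ := Algebra.FormallySmooth.exists_lift (I.map (algebraMap R Λ)) ⟨2, sq_map_eq_bot hI⟩
    ((η.restrictScalars R).comp ρ)
  have hρI : ∀ x ∈ I.map (algebraMap R B'), ρ x = 0 := by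
    suffices I.map (algebraMap R B') ≤ RingHom.ker ρ.toRingHom from fun x hx => this hx
    exact Ideal.map_le_iff_le_comap.mpr fun r hr => by
      show ρ (algebraMap R B' r) = 0
      rw [ρ.commutes]
      show algebraMap (R ⧸ I) Bb (Ideal.Quotient.mk I r) = 0
      rw [Ideal.Quotient.eq_zero_iff_mem.mpr hr, map_zero]
  let q : (B' ⧸ I.map (algebraMap R B')) →+* Bb := Ideal.Quotient.lift _ ρ.toRingHom hρI
  have hq : Function.Bijective q := ⟨(injective_iff_map_eq_zero _).mpr fun x hx => by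
      obtain ⟨x, rfl⟩ := Ideal.Quotient.mk_surjective x
      exact Ideal.Quotient.eq_zero_iff_mem.mpr (hρk x hx),
    fun b => by obtain ⟨x, rfl⟩ := hρs b; exact ⟨Ideal.Quotient.mk _ x, rfl⟩⟩
  let e := RingEquiv.ofBijective q hq
  refine ⟨B', inferInstance, inferInstance, inferInstance, β, e.symm.toRingHom.comp g.toRingHom, fun r => ?_,
    fun x b hx => ?_⟩
  · apply e.injective
    show e (e.symm (g _)) = _
    rw [e.apply_symm_apply, g.commutes]
    exact (ρ.commutes r).symm
  · have h1 : g x = ρ b := by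
      have := congrArg e hx
      rw [show e ((e.symm.toRingHom.comp g.toRingHom) x) = g x from e.apply_symm_apply _] at this
      exact this
    rw [← hgη, AlgHom.comp_apply, h1]
    exact (DFunLike.congr_fun hβ b).symm

/-- Factorization of a finitely presented algebra through a quotient of a smooth one. -/
theorem lift_once {Λ A : Type u} [CommRing Λ] [Algebra R Λ] {I : Ideal R} (hI : I ^ 2 = ⊥)
    (h : Smoothing.IndSmooth (R ⧸ I) (Λ ⧸ I.map (algebraMap R Λ))) [CommRing A] [Algebra R A]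
    [Algebra.FinitePresentation R A] (φ : A →ₐ[R] Λ) :
    ∃ (B : Type u) (_ : CommRing B) (_ : Algebra R B), Algebra.Smooth R B ∧
      ∃ J : Ideal B, J ≤ I.map (algebraMap R B) ∧ J.FG ∧
        ∃ (g : A →ₐ[R] B ⧸ J) (k : (B ⧸ J) →ₐ[R] Λ), k.comp g = φ := by
  classical
  obtain ⟨n, π, hπ, hπk⟩ := Algebra.FinitePresentation.out (R := R) (A := A)
  obtain ⟨s, hs⟩ := hπk
  let red : MvPolynomial (Fin n) R →+* MvPolynomial (Fin n) (R ⧸ I) := MvPolynomial.map (Ideal.Quotient.mk I)
  let K : Ideal (MvPolynomial (Fin n) (R ⧸ I)) := Ideal.span (red '' (s : Set _))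
  haveI : Algebra.FinitePresentation (R ⧸ I) (MvPolynomial (Fin n) (R ⧸ I) ⧸ K) :=
    Algebra.FinitePresentation.quotient ⟨s.image red, by simp [K]⟩
  let φ' : MvPolynomial (Fin n) R →ₐ[R] Λ := φ.comp π
  let f₀ : MvPolynomial (Fin n) (R ⧸ I) →ₐ[R ⧸ I] Λ ⧸ I.map (algebraMap R Λ) :=
    aeval fun i => Ideal.Quotient.mk _ (φ' (X i))
  have hf₀ : ∀ p, f₀ (red p) = Ideal.Quotient.mk _ (φ' p) := fun p => by
    show aeval _ (MvPolynomial.map (algebraMap R (R ⧸ I)) p) = _
    rw [aeval_map_algebraMap]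
    exact (DFunLike.congr_fun (aeval_unique ((Ideal.Quotient.mkₐ R (I.map (algebraMap R Λ))).comp φ')) p).symm
  have hK : K ≤ RingHom.ker f₀.toRingHom := by
    rw [Ideal.span_le]
    rintro _ ⟨p, hp, rfl⟩
    show f₀ (red p) = 0
    have : π p = 0 := hs.le (Submodule.subset_span hp)
    rw [hf₀, AlgHom.comp_apply, this, map_zero, map_zero]
  obtain ⟨B, _, _, _, β, τ, hτ, hτf⟩ := exists_smooth_factor (D := MvPolynomial (Fin n) (R ⧸ I) ⧸ K) hI h (Ideal.Quotient.liftₐ K f₀ fun x hx => hK hx)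
  choose b hb using fun i => Ideal.Quotient.mk_surjective (τ (Ideal.Quotient.mk K (X i)))
  have hd : ∀ i, φ' (X i) - β (b i) ∈ I.map (algebraMap R Λ) := fun i => by
    rw [← Ideal.Quotient.eq, ← hτf _ _ (hb i).symm]
    show _ = f₀ (X i)
    rw [aeval_X]
  choose m ι lam hι hlam using fun i => mem_map_iff_exists_sum I (hd i)
  let Z := Σ i, Fin (m i)
  let B' := MvPolynomial Z B
  haveI : Algebra.Smooth B B' := ⟨inferInstance, inferInstance⟩
  haveI : Algebra.Smooth R B' := Algebra.Smooth.comp R B B'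
  let β' : B' →ₐ[R] Λ := MvPolynomial.aevalTower β fun z => lam z.1 z.2
  let b' : Fin n → B' := fun i => C (b i) + ∑ l, ι i l • X (⟨i, l⟩ : Z)
  have hβC : ∀ x, β' (C x) = β x := fun x => aevalTower_C _ _ x
  have hβX : ∀ z : Z, β' (X z) = lam z.1 z.2 := fun z => aevalTower_X _ _ z
  have hβb : ∀ i, β' (b' i) = φ' (X i) := fun i => by
    simp only [b', map_add, map_sum, map_smul, hβC, hβX, ← hlam i]
    ring
  have hev : ∀ p, β' (aeval b' p) = φ' p := fun p => by
    rw [← AlgHom.comp_apply]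
    refine DFunLike.congr_fun (MvPolynomial.algHom_ext fun i => ?_) p
    rw [AlgHom.comp_apply, aeval_X, hβb]
  let J : Ideal B' := Ideal.span ((fun p : MvPolynomial (Fin n) R => aeval b' p) '' (s : Set (MvPolynomial (Fin n) R)))
  have hJI : J ≤ I.map (algebraMap R B') := by
    rw [Ideal.span_le]
    rintro _ ⟨p, hp, rfl⟩
    show aeval b' p ∈ I.map (algebraMap R B')
    have h1 : aeval b p ∈ I.map (algebraMap R B) := by
      rw [← Ideal.Quotient.eq_zero_iff_mem]
      have h2 : ∀ q, Ideal.Quotient.mk (I.map (algebraMap R B)) (aeval b q) = τ (Ideal.Quotient.mk K (red q)) := by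
        intro q
        induction q using MvPolynomial.induction_on with
        | C r =>
          rw [aeval_C, show red (C r) = algebraMap (R ⧸ I) _ (Ideal.Quotient.mk I r) from map_C _ _]
          exact (hτ r).symm
        | add p q hp hq => simp only [map_add, hp, hq]
        | mul_X p i hp =>
          rw [map_mul, map_mul, aeval_X, hp, hb, show red (p * X i) = red p * X i by simp [red], map_mul, map_mul]
      rw [h2, Ideal.Quotient.eq_zero_iff_mem.mpr (Ideal.subset_span (Set.mem_image_of_mem red hp)), map_zero]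
    have h3 : aeval b' p - C (aeval b p) ∈ I.map (algebraMap R B') := by
      rw [← Ideal.Quotient.eq]
      have : (Ideal.Quotient.mkₐ R (I.map (algebraMap R B'))).comp (aeval b') =
          ((Ideal.Quotient.mkₐ R (I.map (algebraMap R B'))).comp (IsScalarTower.toAlgHom R B B')).comp (aeval b) :=
        MvPolynomial.algHom_ext fun i => by
          simp only [AlgHom.comp_apply, aeval_X, IsScalarTower.toAlgHom_apply, MvPolynomial.algebraMap_eq]
          refine Ideal.Quotient.eq.mpr ?_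
          show C (b i) + _ - C (b i) ∈ _
          rw [add_sub_cancel_left]
          exact Ideal.sum_mem _ fun l _ => smul_mem_map I (hι i l) _
      exact DFunLike.congr_fun this p
    have h4 : C (aeval b p) ∈ I.map (algebraMap R B') := by
      have := Ideal.mem_map_of_mem (algebraMap B B') h1
      rwa [Ideal.map_map, ← IsScalarTower.algebraMap_eq, MvPolynomial.algebraMap_eq] at this
    rw [← sub_add_cancel (aeval b' p) (C (aeval b p))]
    exact add_mem h3 h4
  have hJk : ∀ x ∈ J, β' x = 0 := by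
    suffices J ≤ RingHom.ker β'.toRingHom from fun x hx => this hx
    rw [Ideal.span_le]
    rintro _ ⟨p, hp, rfl⟩
    show β' (aeval b' p) = 0
    rw [hev, AlgHom.comp_apply, show π p = 0 from hs.le (Submodule.subset_span hp), map_zero]
  let g₀ : MvPolynomial (Fin n) R →ₐ[R] B' ⧸ J := (Ideal.Quotient.mkₐ R J).comp (aeval b')
  refine ⟨B', inferInstance, inferInstance, inferInstance, J, hJI, ⟨s.image fun p => aeval b' p, by simp [J]⟩,
    AlgHom.liftOfSurjective π hπ g₀ (fun p hp => ?_), Ideal.Quotient.liftₐ J β' hJk, ?_⟩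
  · have hp' : p ∈ Ideal.span (s : Set _) := hs.ge hp
    refine (Ideal.span_le.mpr ?_ : Ideal.span (s : Set _) ≤ RingHom.ker g₀.toRingHom) hp'
    intro q hq
    exact Ideal.Quotient.eq_zero_iff_mem.mpr (Ideal.subset_span ⟨q, hq, rfl⟩)
  · refine AlgHom.ext fun a => ?_
    obtain ⟨p, rfl⟩ := hπ a
    rw [AlgHom.comp_apply, AlgHom.liftOfSurjective_apply]
    exact hev p

/-- A finitely presented model modulo `I` of prescribed linear relations holding in `Λ ⧸ IΛ`. -/
theorem exists_model {Λ B : Type u} [CommRing Λ] [Algebra R Λ] {I : Ideal R}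
    [CommRing B] [Algebra R B] [Algebra.FinitePresentation R B] (φ : B →ₐ[R] Λ) {σ κ : Type}
    [Fintype σ] [Fintype κ] (c : σ → B) (a : σ → κ → R) (y : κ → Λ)
    (hy : ∀ l, φ (c l) = ∑ j, a l j • y j) :
    ∃ (D : Type u) (_ : CommRing D) (_ : Algebra (R ⧸ I) D) (_ : Algebra.FinitePresentation (R ⧸ I) D)
      (f : D →ₐ[R ⧸ I] Λ ⧸ I.map (algebraMap R Λ)) (γ : B →+* D) (w : κ → D),
      (∀ r, γ (algebraMap R B r) = algebraMap (R ⧸ I) D (Ideal.Quotient.mk I r)) ∧
      (∀ b, f (γ b) = Ideal.Quotient.mk _ (φ b)) ∧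
      ∀ l, γ (c l) = ∑ j, algebraMap (R ⧸ I) D (Ideal.Quotient.mk I (a l j)) * w j := by
  classical
  obtain ⟨n, π, hπ, hπk⟩ := Algebra.FinitePresentation.out (R := R) (A := B)
  obtain ⟨t, ht⟩ := hπk
  let V := Fin n ⊕ κ
  let red : MvPolynomial (Fin n) R →+* MvPolynomial V (R ⧸ I) :=
    (rename (Sum.inl : Fin n → V)).toRingHom.comp (MvPolynomial.map (Ideal.Quotient.mk I))
  choose p hp using fun l => hπ (c l)
  let rels : Finset (MvPolynomial V (R ⧸ I)) := t.image red ∪
    Finset.univ.image fun l => red (p l) - ∑ j, C (Ideal.Quotient.mk I (a l j)) * X (Sum.inr j)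
  let K : Ideal (MvPolynomial V (R ⧸ I)) := Ideal.span rels
  haveI : Algebra.FinitePresentation (R ⧸ I) (MvPolynomial V (R ⧸ I) ⧸ K) :=
    Algebra.FinitePresentation.quotient ⟨rels, rfl⟩
  let q := Ideal.Quotient.mkₐ R (I.map (algebraMap R Λ))
  let f₀ : MvPolynomial V (R ⧸ I) →ₐ[R ⧸ I] Λ ⧸ I.map (algebraMap R Λ) :=
    aeval (Sum.elim (fun i => q (φ (π (X i)))) fun z => q (y z))
  have hf₀ : ∀ u, f₀ (red u) = q (φ (π u)) := fun u => by
    show aeval _ (rename Sum.inl (MvPolynomial.map (algebraMap R (R ⧸ I)) u)) = _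
    rw [aeval_rename, aeval_map_algebraMap]
    exact (DFunLike.congr_fun (aeval_unique ((q.comp φ).comp π)) u).symm
  have hK : K ≤ RingHom.ker f₀.toRingHom := by
    rw [Ideal.span_le]
    intro r hr
    rw [Finset.coe_union, Finset.coe_image, Finset.coe_image] at hr
    rcases hr with ⟨u, hu, rfl⟩ | ⟨l, -, rfl⟩
    · show f₀ (red u) = 0
      rw [hf₀, show π u = 0 from ht.le (Submodule.subset_span hu), map_zero, map_zero]
    · show f₀ _ = 0
      rw [map_sub, hf₀, hp, map_sum, sub_eq_zero, hy, map_sum]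
      refine Finset.sum_congr rfl fun j _ => ?_
      rw [map_mul, Algebra.smul_def]
      simp [f₀, q]
  let γ₀ : MvPolynomial (Fin n) R →+* MvPolynomial V (R ⧸ I) ⧸ K := (Ideal.Quotient.mk K).comp red
  have hγker : ∀ u, u ∈ RingHom.ker π.toRingHom → u ∈ RingHom.ker γ₀ := fun u hu => by
    have hu' : u ∈ Ideal.span (t : Set _) := ht.ge hu
    refine (Ideal.span_le.mpr ?_ : Ideal.span (t : Set _) ≤ RingHom.ker γ₀) hu'
    intro v hv
    exact Ideal.Quotient.eq_zero_iff_mem.mpr
      (Ideal.subset_span (Finset.mem_union_left _ (Finset.mem_image_of_mem red hv)))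
  let γ : B →+* MvPolynomial V (R ⧸ I) ⧸ K :=
    RingHom.liftOfSurjective π.toRingHom hπ ⟨γ₀, hγker⟩
  have hγ : ∀ u, γ (π u) = γ₀ u := fun u => RingHom.liftOfRightInverse_comp_apply π.toRingHom _ _ _ u
  refine ⟨MvPolynomial V (R ⧸ I) ⧸ K, inferInstance, inferInstance, inferInstance,
    Ideal.Quotient.liftₐ K f₀ fun x hx => hK hx, γ, fun j => Ideal.Quotient.mk K (X (Sum.inr j)),
    fun r => ?_, fun b => ?_, fun l => ?_⟩
  · rw [← π.commutes, hγ, ← Ideal.Quotient.mk_algebraMap]
    show Ideal.Quotient.mk K (red _) = _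
    simp [red]
  · obtain ⟨u, rfl⟩ := hπ b
    rw [hγ]
    exact hf₀ u
  · rw [← hp, hγ]
    have h1 : Ideal.Quotient.mk K (red (p l)) =
        Ideal.Quotient.mk K (∑ j, C (Ideal.Quotient.mk I (a l j)) * X (Sum.inr j)) :=
      Ideal.Quotient.eq.mpr (Ideal.subset_span (Finset.mem_union_right _
        (Finset.mem_image_of_mem (fun l => red (p l) - ∑ j, C (Ideal.Quotient.mk I (a l j)) * X (Sum.inr j))
          (Finset.mem_univ l))))
    refine h1.trans ?_
    rw [map_sum]
    exact Finset.sum_congr rfl fun j _ => map_mul _ _ _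

/-- Killing a small ideal. -/
theorem lift_twice {Λ B : Type u} [CommRing Λ] [Algebra R Λ] [Module.Flat R Λ] {I : Ideal R} (hI : I ^ 2 = ⊥)
    (h : Smoothing.IndSmooth (R ⧸ I) (Λ ⧸ I.map (algebraMap R Λ)))
    [CommRing B] [Algebra R B] [Algebra.Smooth R B] (φ : B →ₐ[R] Λ) (J : Ideal B)
    (hJ : J ≤ I.map (algebraMap R B)) (hJfg : J.FG) (hφJ : ∀ x ∈ J, φ x = 0) :
    ∃ (B' : Type u) (_ : CommRing B') (_ : Algebra R B'), Algebra.Smooth R B' ∧
      ∃ (α : B →ₐ[R] B') (β : B' →ₐ[R] Λ), (∀ x ∈ J, α x = 0) ∧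
        ∀ b : B, β (α b) - φ b ∈ I.map (algebraMap R Λ) := by
  classical
  obtain ⟨N, gen, hgen⟩ := Submodule.fg_iff_exists_fin_generating_family.mp hJfg
  choose m ι c hι hc using fun x : Fin N => mem_map_iff_exists_sum I (hJ (hgen.le (Submodule.subset_span ⟨x, rfl⟩)))
  have hflat : ∀ x : Fin N, Module.IsTrivialRelation (ι x) fun l => φ (c x l) := fun x => by
    refine Module.Flat.isTrivialRelation_of_sum_smul_eq_zero ?_
    have h1 := hφJ (gen x) (hgen.le (Submodule.subset_span ⟨x, rfl⟩))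
    rw [hc x, map_sum] at h1
    simpa only [map_smul] using h1
  choose kk a y hy ha using hflat
  let A : (Σ x, Fin (m x)) → (Σ x, Fin (kk x)) → R :=
    fun l j => if e : l.1 = j.1 then a j.1 (e ▸ l.2) j.2 else 0
  have hA : ∀ (x : Fin N) (l : Fin (m x)) {M : Type u} [AddCommMonoid M] [Module R M]
      (v : (Σ x, Fin (kk x)) → M), ∑ j, A ⟨x, l⟩ j • v j = ∑ j, a x l j • v ⟨x, j⟩ := by
    intro x l M _ _ v
    rw [Fintype.sum_sigma, Finset.sum_eq_single x
      (fun z _ hz => Finset.sum_eq_zero fun j _ => by simp [A, Ne.symm hz])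
      (fun hx => absurd (Finset.mem_univ x) hx)]
    exact Finset.sum_congr rfl fun j _ => by simp [A]
  obtain ⟨D, _, _, _, f, γ, w, hγr, hfγ, hγc⟩ := exists_model (I := I) φ (fun l : Σ x, Fin (m x) => c l.1 l.2)
    A (fun j => y j.1 j.2) fun ⟨x, l⟩ => (hy x l).trans (hA x l (fun j => y j.1 j.2)).symm
  obtain ⟨B', _, _, _, β, τ, hτ, hτf⟩ := exists_smooth_factor hI h f
  let IB := I.map (algebraMap R B')
  let α₀ : B →ₐ[R] B' ⧸ IB :=
    { τ.comp γ with
      commutes' := fun r => by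
        show τ (γ (algebraMap R B r)) = _
        rw [hγr, hτ]
        rfl }
  obtain ⟨α, hα⟩ := Algebra.FormallySmooth.exists_lift IB ⟨2, sq_map_eq_bot hI⟩ α₀
  have hαmk : ∀ b, Ideal.Quotient.mk IB (α b) = τ (γ b) := fun b => DFunLike.congr_fun hα b
  choose W hW using fun j => Ideal.Quotient.mk_surjective (τ (w j))
  refine ⟨B', inferInstance, inferInstance, inferInstance, α, β, ?_, fun b => ?_⟩
  · suffices J ≤ RingHom.ker α.toRingHom from fun x hx => this hx
    rw [← hgen, Ideal.span_le]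
    rintro _ ⟨x, rfl⟩
    show α (gen x) = 0
    rw [congrArg α (hc x), map_sum]
    have h1 : ∀ l, ι x l • α (c x l) = ι x l • ∑ j, a x l j • W ⟨x, j⟩ := fun l => by
      rw [← hA x l W, ← sub_eq_zero, ← smul_sub]
      refine smul_eq_zero_of_mem_map hI (hι x l) ?_
      rw [← Ideal.Quotient.eq, hαmk, hγc ⟨x, l⟩, map_sum, map_sum]
      refine Finset.sum_congr rfl fun j _ => ?_
      rw [map_mul, hτ, ← hW, ← map_mul, Algebra.smul_def]
    simp only [map_smul, h1, Finset.smul_sum, smul_smul]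
    rw [Finset.sum_comm]
    refine Finset.sum_eq_zero fun j _ => ?_
    rw [← Finset.sum_smul, ha, zero_smul]
  · rw [← Ideal.Quotient.eq, ← hτf _ _ (hαmk b).symm, hfγ]

/-- The square zero case. -/
theorem indSmooth_of_sq_zero {Λ : Type u} [CommRing Λ] [Algebra R Λ] [Module.Flat R Λ] {I : Ideal R}
    (hI : I ^ 2 = ⊥) (h : Smoothing.IndSmooth (R ⧸ I) (Λ ⧸ I.map (algebraMap R Λ))) :
    Smoothing.IndSmooth R Λ := by
  classical
  intro A _ _ hA φ
  obtain ⟨B, _, _, hB, J, hJI, hJfg, g, k, hkg⟩ := lift_once hI h φ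
  let φB : B →ₐ[R] Λ := k.comp (Ideal.Quotient.mkₐ R J)
  have hφJ : ∀ x ∈ J, φB x = 0 := fun x hx => by
    show k (Ideal.Quotient.mk J x) = 0
    rw [Ideal.Quotient.eq_zero_iff_mem.mpr hx, map_zero]
  obtain ⟨B', _, _, _, α, β, hαJ, hαβ⟩ := lift_twice hI h φB J hJI hJfg hφJ
  let ψ : B →ₐ[R] Λ := β.comp α
  have hd : ∀ b, φB b - ψ b ∈ I.map (algebraMap R Λ) := fun b => by rw [← neg_sub]; exact neg_mem (hαβ b)
  obtain ⟨n, π, hπ, -⟩ := Algebra.FinitePresentation.out (R := R) (A := B)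
  choose m ι lam hι hlam using fun i => mem_map_iff_exists_sum I (hd (π (X i)))
  let Z := Σ i : Fin n, Fin (m i)
  let B'' := MvPolynomial Z B'
  haveI : Algebra.Smooth B' B'' := ⟨inferInstance, inferInstance⟩
  haveI : Algebra.Smooth R B'' := Algebra.Smooth.comp R B' B''
  let β' : B'' →ₐ[R] Λ := MvPolynomial.aevalTower β fun z => lam z.1 z.2
  let α' : B →ₐ[R] B'' := (IsScalarTower.toAlgHom R B' B'').comp α
  have hβα : ∀ b, β' (α' b) = ψ b := fun b => aevalTower_C _ _ _
  letI : Algebra B B'' := α'.toRingHom.toAlgebra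
  haveI : IsScalarTower R B B'' := IsScalarTower.of_algebraMap_eq fun r => (α'.commutes r).symm
  letI : Algebra B Λ := ψ.toRingHom.toAlgebra
  haveI : IsScalarTower R B Λ := IsScalarTower.of_algebraMap_eq fun r => (ψ.commutes r).symm
  have hmul : ∀ x ∈ I.map (algebraMap R Λ), ∀ y ∈ I.map (algebraMap R Λ), x * y = 0 := fun x hx y hy => by
    rw [← Ideal.mem_bot, ← sq_map_eq_bot (B := Λ) hI, pow_two]
    exact Ideal.mul_mem_mul hx hy
  let δ : Derivation R B Λ := Derivation.mk' (φB.toLinearMap - ψ.toLinearMap) fun x y => by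
    show φB (x * y) - ψ (x * y) = ψ x * (φB y - ψ y) + ψ y * (φB x - ψ x)
    have h0 := hmul _ (hd x) _ (hd y)
    rw [map_mul, map_mul]
    linear_combination h0
  let βl : B'' →ₗ[B] Λ :=
    { toFun := β'
      map_add' := map_add β'
      map_smul' := fun b z => by
        show β' (α' b * z) = ψ b * β' z
        rw [map_mul, hβα] }
  let v : Z → B'' := fun z => ι z.1 z.2 • X z
  let Gl : (Z → B) →ₗ[B] B'' := Fintype.linearCombination B v
  have hrange : LinearMap.range δ.liftKaehlerDifferential ≤ LinearMap.range (βl ∘ₗ Gl) := by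
    have hgen : ∀ u, δ (π u) ∈ LinearMap.range (βl ∘ₗ Gl) := fun u => by
      rw [derivation_aeval δ π u]
      refine Submodule.sum_mem _ fun i _ => Submodule.smul_mem _ _ ?_
      refine ⟨∑ l, Pi.single (⟨i, l⟩ : Z) 1, ?_⟩
      rw [map_sum]
      show _ = φB (π (X i)) - ψ (π (X i))
      rw [hlam i]
      refine Finset.sum_congr rfl fun l _ => ?_
      show β' (Gl (Pi.single (⟨i, l⟩ : Z) 1)) = _
      rw [Fintype.linearCombination_apply_single, one_smul]
      simp only [v, map_smul]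
      exact congrArg (ι i l • ·) (aevalTower_X β (fun z : Z => lam z.1 z.2) ⟨i, l⟩)
    rw [LinearMap.range_eq_map, ← KaehlerDifferential.span_range_derivation R B, Submodule.map_span, Submodule.span_le]
    rintro _ ⟨_, ⟨b, rfl⟩, rfl⟩
    obtain ⟨u, rfl⟩ := hπ b
    rw [Derivation.liftKaehlerDifferential_comp_D]
    exact hgen u
  obtain ⟨L, hL⟩ := Module.projective_lifting_property (βl ∘ₗ Gl).rangeRestrict
    (δ.liftKaehlerDifferential.codRestrict _ fun z => hrange ⟨z, rfl⟩) (βl ∘ₗ Gl).surjective_rangeRestrict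
  let Dl : Derivation R B B'' := (Gl ∘ₗ L).compDer (KaehlerDifferential.D R B)
  let IB := I.map (algebraMap R B'')
  have hDI : ∀ b, Dl b ∈ IB := fun b => by
    show Gl (L (KaehlerDifferential.D R B b)) ∈ IB
    rw [Fintype.linearCombination_apply]
    refine Submodule.sum_mem _ fun z _ => ?_
    rw [Algebra.smul_def]
    exact Ideal.mul_mem_left _ _ (smul_mem_map I (hι z.1 z.2) _)
  let α'' : B →ₐ[R] B'' :=
    { toFun := fun b => α' b + Dl b
      map_one' := by simp
      map_zero' := by simp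
      map_add' := fun x y => by simp only [map_add]; ring
      map_mul' := fun x y => by
        rw [Derivation.leibniz, Algebra.smul_def, Algebra.smul_def, map_mul]
        have h0 : Dl x * Dl y = 0 := by
          rw [← Ideal.mem_bot, ← sq_map_eq_bot (B := B'') hI, pow_two]
          exact Ideal.mul_mem_mul (hDI x) (hDI y)
        show α' x * α' y + (α' x * Dl y + α' y * Dl x) = (α' x + Dl x) * (α' y + Dl y)
        linear_combination -h0
      commutes' := fun r => by
        show α' (algebraMap R B r) + Dl (algebraMap R B r) = _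
        rw [Derivation.map_algebraMap, add_zero, AlgHom.commutes] }
  have hα''J : ∀ x ∈ J, α'' x = 0 := fun x hx => by
    obtain ⟨m', ι', c', hι', rfl⟩ := mem_map_iff_exists_sum I (hJI hx)
    show α' _ + Dl _ = 0
    rw [show α' (∑ l, ι' l • c' l) = 0 from by
      show algebraMap B' B'' (α _) = 0
      rw [hαJ _ hx, map_zero], zero_add, map_sum]
    exact Finset.sum_eq_zero fun l _ => by
      rw [Derivation.map_smul]; exact smul_eq_zero_of_mem_map hI (hι' l) (hDI _)
  have hfin : ∀ b, β' (α'' b) = φB b := fun b => by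
    show β' (α' b + Dl b) = φB b
    have h1 : β' (Dl b) = φB b - ψ b := by
      have := congrArg Subtype.val (DFunLike.congr_fun hL (KaehlerDifferential.D R B b))
      refine Eq.trans ?_ (this.trans (δ.liftKaehlerDifferential_comp_D b))
      rfl
    rw [map_add, hβα, h1, add_sub_cancel]
  refine ⟨B'', inferInstance, inferInstance, inferInstance, (Ideal.Quotient.liftₐ J α'' hα''J).comp g, β', ?_⟩
  rw [← AlgHom.comp_assoc, show β'.comp (Ideal.Quotient.liftₐ J α'' hα''J) = k from
    Ideal.Quotient.algHom_ext R (AlgHom.ext fun b => hfin b)]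
  exact hkg

/-- Ind-smoothness is invariant under isomorphism of the structure map. -/
theorem indSmooth_of_equiv {R₁ R₂ L₁ L₂ : Type u} [CommRing R₁] [CommRing R₂] [CommRing L₁] [CommRing L₂]
    [Algebra R₁ L₁] [Algebra R₂ L₂] (e : R₁ ≃+* R₂) (eL : L₁ ≃+* L₂)
    (he : ∀ r, eL (algebraMap R₁ L₁ r) = algebraMap R₂ L₂ (e r)) (h : Smoothing.IndSmooth R₁ L₁) :
    Smoothing.IndSmooth R₂ L₂ := by
  intro A _ _ hA f
  letI : Algebra R₁ R₂ := e.toRingHom.toAlgebra
  letI : Algebra R₁ A := ((algebraMap R₂ A).comp e.toRingHom).toAlgebra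
  haveI : IsScalarTower R₁ R₂ A := IsScalarTower.of_algebraMap_eq fun _ => rfl
  haveI : Algebra.FinitePresentation R₁ R₂ :=
    Algebra.FinitePresentation.equiv (AlgEquiv.ofRingEquiv (f := e) fun r => rfl)
  haveI : Algebra.FinitePresentation R₁ A := Algebra.FinitePresentation.trans R₁ R₂ A
  let f₁ : A →ₐ[R₁] L₁ :=
    { eL.symm.toRingHom.comp f.toRingHom with
      commutes' := fun r => eL.injective (by
        show eL (eL.symm (f (algebraMap R₂ A (e r)))) = _
        rw [eL.apply_symm_apply, f.commutes, he]) }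
  obtain ⟨B, _, _, _, g, η, hgη⟩ := h A inferInstance f₁
  letI : Algebra R₂ R₁ := e.symm.toRingHom.toAlgebra
  letI : Algebra R₂ B := ((algebraMap R₁ B).comp e.symm.toRingHom).toAlgebra
  haveI : IsScalarTower R₂ R₁ B := IsScalarTower.of_algebraMap_eq fun _ => rfl
  haveI : Algebra.Smooth R₂ R₁ :=
    Algebra.Smooth.of_equiv (AlgEquiv.ofRingEquiv (f := e.symm) fun r => rfl : R₂ ≃ₐ[R₂] R₁)
  haveI : Algebra.Smooth R₂ B := Algebra.Smooth.comp R₂ R₁ B
  refine ⟨B, inferInstance, inferInstance, inferInstance,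
    { g.toRingHom with
      commutes' := fun r => by
        have := g.commutes (e.symm r)
        show g (algebraMap R₂ A r) = algebraMap R₁ B (e.symm r)
        rw [← this]
        show _ = g (algebraMap R₂ A (e (e.symm r)))
        rw [e.apply_symm_apply] },
    { eL.toRingHom.comp η.toRingHom with
      commutes' := fun r => by
        show eL (η (algebraMap R₁ B (e.symm r))) = _
        rw [η.commutes, he, e.apply_symm_apply] }, AlgHom.ext fun a => ?_⟩
  show eL (η (g a)) = f a
  rw [show η (g a) = f₁ a from DFunLike.congr_fun hgη a]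
  exact eL.apply_symm_apply _

/-- Ind-smoothness lifts along nilpotent thickenings. -/
theorem indSmooth_of_nilpotent {Λ : Type u} [CommRing Λ] [Algebra R Λ] [Module.Flat R Λ] (I : Ideal R)
    (hI : IsNilpotent I) (h : Smoothing.IndSmooth (R ⧸ I) (Λ ⧸ I.map (algebraMap R Λ))) :
    Smoothing.IndSmooth R Λ := by
  obtain ⟨N, hN⟩ := hI
  induction N using Nat.strong_induction_on generalizing R Λ with
  | _ N ih =>
  rcases Nat.lt_or_ge N 3 with hlt | hge
  · refine indSmooth_of_sq_zero (le_antisymm ?_ bot_le) h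
    calc I ^ 2 ≤ I ^ N := Ideal.pow_le_pow_right (by omega)
      _ = ⊥ := hN
  let P := I ^ (N - 1)
  let PL := P.map (algebraMap R Λ)
  have hPI : P ≤ I := Ideal.pow_le_self (by omega)
  haveI : Module.Flat (R ⧸ P) (Λ ⧸ PL) :=
    Module.Flat.of_linearEquiv
      ((((Algebra.TensorProduct.quotIdealMapEquivTensorQuot Λ P).toLinearEquiv.restrictScalars R).trans
        (TensorProduct.comm R Λ (R ⧸ P))).extendScalarsOfSurjective Ideal.Quotient.mk_surjective)
  refine indSmooth_of_sq_zero (I := P) (le_antisymm ?_ bot_le) ?_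
  · rw [← pow_mul]
    calc I ^ ((N - 1) * 2) ≤ I ^ N := Ideal.pow_le_pow_right (by omega)
      _ = ⊥ := hN
  let I' := I.map (Ideal.Quotient.mk P)
  refine ih (N - 1) (by omega) (R := R ⧸ P) (Λ := Λ ⧸ PL) I' ?_
    (by rw [← Ideal.map_pow, Ideal.map_quotient_self]; rfl)
  have hL : I'.map (algebraMap (R ⧸ P) (Λ ⧸ PL)) = (I.map (algebraMap R Λ)).map (Ideal.Quotient.mk PL) := by
    rw [Ideal.map_map, Ideal.map_map]
    rfl
  refine indSmooth_of_equiv (DoubleQuot.quotQuotEquivQuotOfLE hPI).symm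
    ((DoubleQuot.quotQuotEquivQuotOfLE (Ideal.map_mono hPI)).symm.trans (Ideal.quotEquivOfEq hL.symm))
    (fun r => ?_) h
  obtain ⟨r, rfl⟩ := Ideal.Quotient.mk_surjective r
  rfl

end Groth.Agent.H9Smooth
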